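import Mathlib

/-!
# Adjoining one element to a subgroup it normalises
-/

set_option autoImplicit false

namespace Cfsg.Agent.LyOut

variable {G : Type*} [Group G]

/-- Conjugation by generators keeps a finite subgroup if it keeps its generators. -/
theorem conj_mem_closure {S : Set G} {x : G} (h : ∀ s ∈ S, x * s * x⁻¹ ∈ Subgroup.closure S)
    {g : G} (hg : g ∈ Subgroup.closure S) : x * g * x⁻¹ ∈ Subgroup.closure S := by
  have : Subgroup.closure S ≤ (Subgroup.closure S).comap (MulAut.conj x).toMonoidHom := by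
    rw [Subgroup.closure_le]
    exact fun s hs => h s hs
  exact this hg

/-- Conjugation into a subgroup is checked on generators. -/
theorem closure_conj_le {S : Set G} {N : Subgroup G} {x : G} (h : ∀ s ∈ S, x * s * x⁻¹ ∈ N)
    {g : G} (hg : g ∈ Subgroup.closure S) : x * g * x⁻¹ ∈ N := by
  have : Subgroup.closure S ≤ N.comap (MulAut.conj x).toMonoidHom := by
    rw [Subgroup.closure_le]
    exact fun s hs => h s hs
  exact this hg

theorem mem_normalizer_of_conj_mem {K : Subgroup G} [Finite K] {x : G}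
    (h : ∀ k ∈ K, x * k * x⁻¹ ∈ K) : x ∈ Subgroup.normalizer (K : Set G) := by
  let f : K → K := fun k => ⟨x * k * x⁻¹, h k k.2⟩
  have hf : Function.Injective f := fun a b e => Subtype.ext (by simpa [f] using e)
  obtain hs := (Finite.injective_iff_surjective).1 hf
  rw [Subgroup.mem_normalizer_iff]
  intro k
  refine ⟨h k, fun hk => ?_⟩
  obtain ⟨⟨k', hk'⟩, e⟩ := hs ⟨_, hk⟩
  have e' : x * k' * x⁻¹ = x * k * x⁻¹ := congrArg Subtype.val e
  have : k' = k := by simpa using e'
  exact this ▸ hk'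

/-- Adjoining an element whose `p`-th power lies in the subgroup. -/
theorem card_adjoin {K : Subgroup G} [Finite K] {x : G} {p : ℕ} (hp : p.Prime)
    (hn : x ∈ Subgroup.normalizer (K : Set G)) (hxp : x ^ p ∈ K) (hx : x ∉ K) :
    Nat.card ↥(K ⊔ Subgroup.zpowers x) = p * Nat.card K := by
  classical
  set J := K ⊔ Subgroup.zpowers x with hJ
  have hxJ : x ∈ J := (le_sup_right : Subgroup.zpowers x ≤ J) (Subgroup.mem_zpowers x)
  have hN : J ≤ Subgroup.normalizer (K : Set G) :=
    sup_le Subgroup.le_normalizer (Subgroup.zpowers_le.2 hn)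
  have hKn : (K.subgroupOf J).Normal :=
    Subgroup.normal_subgroupOf_iff_le_normalizer (le_sup_left : K ≤ J) |>.2 hN
  let q : ↥J ⧸ K.subgroupOf J := QuotientGroup.mk' _ ⟨x, hxJ⟩
  have hqp : q ^ p = 1 := by
    rw [← map_pow]
    exact (QuotientGroup.eq_one_iff _).2 hxp
  have hq1 : q ≠ 1 := fun h => hx (Subgroup.mem_subgroupOf.1 ((QuotientGroup.eq_one_iff (N := K.subgroupOf J) (⟨x, hxJ⟩ : J)).1 h))
  have : Fact p.Prime := ⟨hp⟩
  have hord : orderOf q = p := orderOf_eq_prime hqp hq1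
  have htop : Subgroup.zpowers q = ⊤ := by
    rw [eq_top_iff]
    intro z _
    obtain ⟨⟨g, hg⟩, rfl⟩ := QuotientGroup.mk'_surjective _ z
    have hle : J ≤ ((Subgroup.zpowers q).comap (QuotientGroup.mk' (K.subgroupOf J))).map J.subtype := by
      refine sup_le (fun k hk => ⟨⟨k, (le_sup_left : K ≤ J) hk⟩, ?_, rfl⟩)
        (Subgroup.zpowers_le.2 ⟨⟨x, hxJ⟩, Subgroup.mem_zpowers q, rfl⟩)
      rw [SetLike.mem_coe, Subgroup.mem_comap]
      rw [show QuotientGroup.mk' (K.subgroupOf J) ⟨k, _⟩ = 1 from (QuotientGroup.eq_one_iff _).2 hk]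
      exact one_mem _
    obtain ⟨⟨g', hg'⟩, hm, rfl⟩ := hle hg
    exact hm
  have hc : Nat.card (↥J ⧸ K.subgroupOf J) = p := by
    rw [← hord, ← Nat.card_zpowers, htop, Subgroup.card_top]
  rw [Subgroup.card_eq_card_quotient_mul_card_subgroup (K.subgroupOf J), hc,
    Nat.card_congr (Subgroup.subgroupOfEquivOfLe (le_sup_left : K ≤ J)).toEquiv]

theorem finite_adjoin {K : Subgroup G} [Finite K] {x : G} {p : ℕ} (hp : p.Prime)
    (hn : x ∈ Subgroup.normalizer (K : Set G)) (hxp : x ^ p ∈ K) :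
    Finite ↥(K ⊔ Subgroup.zpowers x) := by
  by_cases hx : x ∈ K
  · rw [sup_eq_left.2 (Subgroup.zpowers_le.2 hx)]
    infer_instance
  · exact Nat.finite_of_card_ne_zero (by
      rw [card_adjoin hp hn hxp hx]
      exact Nat.mul_ne_zero hp.ne_zero Nat.card_pos.ne')

/-- An element of an adjunction that commutes with something the new element does not. -/
theorem mem_of_commute {K : Subgroup G} [Finite K] {x t g : G} {p : ℕ} (hp : p.Prime)
    (hn : x ∈ Subgroup.normalizer (K : Set G)) (hxp : x ^ p ∈ K) (hK : ∀ k ∈ K, Commute t k)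
    (hxt : ¬ Commute t x) (hg : g ∈ K ⊔ Subgroup.zpowers x) (hgt : Commute t g) : g ∈ K := by
  have : Finite ↥(K ⊔ Subgroup.zpowers x) := finite_adjoin hp hn hxp
  set J := K ⊔ Subgroup.zpowers x
  let C : Subgroup G := Subgroup.centralizer {t} ⊓ J
  have hKC : K ≤ C := le_inf (fun k hk => Subgroup.mem_centralizer_singleton_iff.2
    (hK k hk).symm) le_sup_left
  have hx : x ∉ K := fun h => hxt (hK x h)
  have hcard : Nat.card J = p * Nat.card K := card_adjoin hp hn hxp hx
  have hCJ : C ≤ J := inf_le_right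
  have : Finite C := Finite.of_injective _ (Subgroup.inclusion_injective hCJ)
  obtain ⟨a, ha⟩ := Subgroup.card_dvd_of_le hKC
  have hb := Subgroup.card_dvd_of_le hCJ
  rw [hcard, ha, Nat.mul_comm p] at hb
  have hap : a ∣ p := Nat.dvd_of_mul_dvd_mul_left Nat.card_pos hb
  rcases hp.eq_one_or_self_of_dvd a hap with rfl | rfl
  · have hKC' : K = C := Subgroup.eq_of_le_of_card_ge hKC (by rw [ha, Nat.mul_one])
    rw [hKC']
    exact ⟨Subgroup.mem_centralizer_singleton_iff.2 hgt.symm, hg⟩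
  · exfalso
    have hCJ' : C = J := Subgroup.eq_of_le_of_card_ge hCJ (by rw [hcard, ha, Nat.mul_comm])
    have hxC : x ∈ C := hCJ' ▸ (le_sup_right : Subgroup.zpowers x ≤ J) (Subgroup.mem_zpowers x)
    exact hxt (Subgroup.mem_centralizer_singleton_iff.1 hxC.1).symm

/-- The commutator of two closures is checked on generators. -/
theorem commutator_closure_le {A B : Set G} {N : Subgroup G}
    (hA : ∀ a ∈ A, a ∈ Subgroup.normalizer (N : Set G))
    (hB : ∀ b ∈ B, b ∈ Subgroup.normalizer (N : Set G))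
    (h : ∀ a ∈ A, ∀ b ∈ B, a * b * a⁻¹ * b⁻¹ ∈ N) :
    ⁅Subgroup.closure A, Subgroup.closure B⁆ ≤ N := by
  have hA' : Subgroup.closure A ≤ Subgroup.normalizer (N : Set G) := (Subgroup.closure_le _).2 hA
  have hB' : Subgroup.closure B ≤ Subgroup.normalizer (N : Set G) := (Subgroup.closure_le _).2 hB
  set J := Subgroup.normalizer (N : Set G)
  have hN : (N.subgroupOf J).Normal := Subgroup.normal_in_normalizer
  let π := QuotientGroup.mk' (N.subgroupOf J)
  have key : ∀ a (ha : a ∈ J) b (hb : b ∈ J),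
      a * b * a⁻¹ * b⁻¹ ∈ N ↔ Commute (π ⟨a, ha⟩) (π ⟨b, hb⟩) := by
    intro a ha b hb
    constructor
    · intro hc
      have h1 : π (⟨a, ha⟩ * ⟨b, hb⟩ * (⟨a, ha⟩ : J)⁻¹ * (⟨b, hb⟩ : J)⁻¹) = 1 :=
        (QuotientGroup.eq_one_iff (N := N.subgroupOf J) _).2 (Subgroup.mem_subgroupOf.2 (by simpa using hc))
      simp only [map_mul, map_inv] at h1
      rw [mul_inv_eq_one, mul_inv_eq_iff_eq_mul] at h1
      exact h1
    · intro hc
      have h1 : π (⟨a, ha⟩ * ⟨b, hb⟩ * (⟨a, ha⟩ : J)⁻¹ * (⟨b, hb⟩ : J)⁻¹) = 1 := by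
        simp only [map_mul, map_inv]
        rw [hc.eq, mul_assoc (π ⟨b, hb⟩), mul_inv_cancel, mul_one, mul_inv_cancel]
      simpa using Subgroup.mem_subgroupOf.1 ((QuotientGroup.eq_one_iff (N := N.subgroupOf J) _).1 h1)
  rw [Subgroup.commutator_le]
  intro g hg h' hh'
  rw [commutatorElement_def, key g (hA' hg) h' (hB' hh')]
  revert h'
  induction hg using Subgroup.closure_induction with
  | mem a ha =>
    intro h' hh'
    induction hh' using Subgroup.closure_induction with
    | mem b hb => exact (key a _ b _).1 (h a ha b hb)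
    | one => exact (map_one π).symm ▸ Commute.one_right _
    | mul x y hx hy ihx ihy => exact (map_mul π ⟨x, hB' hx⟩ ⟨y, hB' hy⟩).symm ▸ ihx.mul_right ihy
    | inv x hx ihx => exact (map_inv π ⟨x, hB' hx⟩).symm ▸ ihx.inv_right
  | one => intro h' hh'; exact (map_one π).symm ▸ Commute.one_left _
  | mul x y hx hy ihx ihy =>
    intro h' hh'
    exact (map_mul π ⟨x, hA' hx⟩ ⟨y, hA' hy⟩).symm ▸ (ihx h' hh').mul_left (ihy h' hh')
  | inv x hx ihx =>
    intro h' hh'
    exact (map_inv π ⟨x, hA' hx⟩).symm ▸ (ihx h' hh').inv_left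

end Cfsg.Agent.LyOut
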