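import Cfsg.Agent.LyOut.PGroup

/-!
# Subgroups of `U` kept by every automorphism that keeps `U`
-/

set_option autoImplicit false
set_option maxRecDepth 100000
set_option maxHeartbeats 1000000

open scoped commutatorElement

namespace Cfsg.Agent.LyOut

/-- The generators of `U`. -/
abbrev genU : Set G := {w 5, w 4, w 3, w 2, w 1, w 0}

theorem Us_eq : Us = Subgroup.closure genU := by
  refine le_antisymm ?_ ?_
  · refine sup_le (sup_le (sup_le (sup_le (sup_le ?_ ?_) ?_) ?_) ?_) ?_ <;>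
      exact Subgroup.zpowers_le.2 (Subgroup.subset_closure (by simp [genU]))
  · rw [Subgroup.closure_le]
    rintro x (rfl | rfl | rfl | rfl | rfl | rfl)
    exacts [U1_le_Us (S2_le_U1 (S3_le_S2 (S4_le_S3 w5_mem_S4))),
      U1_le_Us (S2_le_U1 (S3_le_S2 (S4_le_S3 w4_mem_S4))), U1_le_Us (S2_le_U1 (S3_le_S2 w3_mem_S3)),
      U1_le_Us (S2_le_U1 w2_mem_S2), U1_le_Us w1_mem_U1, b_mem_Us]

theorem genU_norm {K : Subgroup G} (h : ∀ i, i < 6 → 0 < i → w i ∈ Subgroup.normalizer (K : Set G))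
    (hb : gb⁻¹ ∈ Subgroup.normalizer (K : Set G)) :
    ∀ x ∈ genU, x ∈ Subgroup.normalizer (K : Set G) := by
  rintro x (rfl | rfl | rfl | rfl | rfl | rfl)
  exacts [h 5 (by norm_num) (by norm_num), h 4 (by norm_num) (by norm_num),
    h 3 (by norm_num) (by norm_num), h 2 (by norm_num) (by norm_num),
    h 1 (by norm_num) (by norm_num), by simpa using inv_mem hb]

theorem comm_of_pos {N : Subgroup G} (h5 : S5 ≤ N) {i j : Nat} (hi : i < 6) (hj : j < 6)
    (hi0 : 0 < i) (hj0 : 0 < j) : w i * w j * (w i)⁻¹ * (w j)⁻¹ ∈ N := by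
  rw [conj_w hi hj hi0 hj0, (commute_S5 hj hj0 _ (w5_pow_mem _)).eq, mul_inv_cancel_right]
  exact h5 (w5_pow_mem _)

/-- The commutators with `b`. -/
theorem comm_b {N : Subgroup G} (hN : gb ∈ Subgroup.normalizer (N : Set G)) {u v : G}
    (h : gb⁻¹ * u * gb⁻¹⁻¹ = u * v) (hv : v ∈ N) (hu : u ∈ Subgroup.normalizer (N : Set G)) :
    u * gb * u⁻¹ * gb⁻¹ ∈ N ∧ gb * u * gb⁻¹ * u⁻¹ ∈ N := by
  rw [inv_inv] at h
  have e : u * gb * u⁻¹ * gb⁻¹ = gb * (u * v * u⁻¹) * gb⁻¹ := by
    rw [← h]; group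
  have h1 : u * gb * u⁻¹ * gb⁻¹ ∈ N := e ▸
    (Subgroup.mem_normalizer_iff.1 hN _).1 ((Subgroup.mem_normalizer_iff.1 hu v).1 hv)
  refine ⟨h1, ?_⟩
  rw [show gb * u * gb⁻¹ * u⁻¹ = (u * gb * u⁻¹ * gb⁻¹)⁻¹ by group]
  exact inv_mem h1

theorem b_norm3 : gb ∈ Subgroup.normalizer (S3 : Set G) := by simpa using inv_mem b_inv_norm3
theorem b_norm4 : gb ∈ Subgroup.normalizer (S4 : Set G) := by simpa using inv_mem b_inv_norm4

theorem mem_normalizer_commutator {H : Subgroup G} {u : G} (hu : u ∈ H) :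
    u ∈ Subgroup.normalizer ((⁅H, H⁆ : Subgroup G) : Set G) := by
  have hH : H.map (MulAut.conj u).toMonoidHom = H :=
    by
    ext z
    constructor
    · rintro ⟨y, hy, rfl⟩
      exact mul_mem (mul_mem hu hy) (inv_mem hu)
    · intro hz
      exact ⟨u⁻¹ * z * u, mul_mem (mul_mem (inv_mem hu) hz) hu, by simp [mul_assoc]⟩
  rw [Subgroup.mem_normalizer_iff]
  intro v
  have e : (⁅H, H⁆).map (MulAut.conj u).toMonoidHom = ⁅H, H⁆ := by
    rw [Subgroup.map_commutator, hH]
  conv_rhs => rw [← e]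
  exact (Subgroup.mem_map_iff_mem (f := (MulAut.conj u).toMonoidHom) (MulAut.conj u).injective).symm

theorem commutator_Us : ⁅Us, Us⁆ = S2 := by
  have hn := genU_norm (fun i a b => norm2 (i := i) a b) b_inv_norm2
  have h5 : S5 ≤ S2 := (le_sup_left.trans S4_le_S3).trans S3_le_S2
  have m2 := w2_mem_S2
  have m3 := S3_le_S2 w3_mem_S3
  have m4 := S3_le_S2 (S4_le_S3 w4_mem_S4)
  obtain ⟨c1, c2, c3, c4, c5⟩ := conj_b
  have k1 := comm_b b_norm2 c1 m2 (norm2 (by norm_num) (by norm_num))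
  have k2 := comm_b b_norm2 c2 m3 (norm2 (by norm_num) (by norm_num))
  have k3 := comm_b b_norm2 c3 m4 (norm2 (by norm_num) (by norm_num))
  have k4 := comm_b b_norm2 (c4.trans (mul_one _).symm) (one_mem S2) (norm2 (by norm_num) (by norm_num))
  have k5 := comm_b b_norm2 (c5.trans (mul_one _).symm) (one_mem S2) (norm2 (by norm_num) (by norm_num))
  refine le_antisymm ?_ ?_
  · rw [Us_eq]
    refine commutator_closure_le hn hn ?_
    rintro a (rfl | rfl | rfl | rfl | rfl | rfl) b (rfl | rfl | rfl | rfl | rfl | rfl)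
    all_goals first
      | exact k1.1 | exact k1.2 | exact k2.1 | exact k2.2 | exact k3.1 | exact k3.2
      | exact k4.1 | exact k4.2 | exact k5.1 | exact k5.2
      | (simp; done)
      | exact comm_of_pos h5 (by norm_num) (by norm_num) (by norm_num) (by norm_num)
  · have hb : gb⁻¹ ∈ Us := inv_mem b_mem_Us
    have h1 : w 1 ∈ Us := U1_le_Us w1_mem_U1
    have hw : ∀ {u v : G}, u ∈ Us → gb⁻¹ * u * gb⁻¹⁻¹ = u * v → u * v * u⁻¹ ∈ ⁅Us, Us⁆ := by
      intro u v hu e
      rw [← e, show gb⁻¹ * u * gb⁻¹⁻¹ * u⁻¹ = ⁅gb⁻¹, u⁆ from (commutatorElement_def _ _).symm]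
      exact Subgroup.commutator_mem_commutator hb hu
    have hnc : ∀ {u v : G}, u ∈ Us → u * v * u⁻¹ ∈ ⁅Us, Us⁆ → v ∈ ⁅Us, Us⁆ := by
      intro u v hu h
      have : u ∈ Subgroup.normalizer ((⁅Us, Us⁆ : Subgroup G) : Set G) :=
        mem_normalizer_commutator hu
      exact (Subgroup.mem_normalizer_iff.1 this v).2 h
    have h2 : w 2 ∈ ⁅Us, Us⁆ := hnc h1 (hw h1 c1)
    have u2 : w 2 ∈ Us := U1_le_Us (S2_le_U1 m2)
    have h3 : w 3 ∈ ⁅Us, Us⁆ := hnc u2 (hw u2 c2)
    have u3 : w 3 ∈ Us := U1_le_Us (S2_le_U1 m3)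
    have h4 : w 4 ∈ ⁅Us, Us⁆ := hnc u3 (hw u3 c3)
    have e5 := conj_w (i := 3) (j := 2) (by norm_num) (by norm_num) (by norm_num) (by norm_num)
    have h5' : w 5 ^ 3 ∈ ⁅Us, Us⁆ := by
      have := Subgroup.commutator_mem_commutator u3 u2
      rw [commutatorElement_def, e5] at this
      rw [(commute_S5 (i := 2) (by norm_num) (by norm_num) _ (w5_pow_mem _)).eq,
        mul_inv_cancel_right] at this
      exact this
    have h55 : w 5 ∈ ⁅Us, Us⁆ := by
      have := pow_mem h5' 2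
      rwa [← pow_mul, show 3 * 2 = 5 + 1 from rfl, pow_succ, pow_five 5 (by norm_num), one_mul] at this
    exact sup_le (sup_le (sup_le (Subgroup.zpowers_le.2 h55) (Subgroup.zpowers_le.2 h4))
      (Subgroup.zpowers_le.2 h3)) (Subgroup.zpowers_le.2 h2)

theorem S2_eq : S2 = Subgroup.closure {w 5, w 4, w 3, w 2} := by
  refine le_antisymm ?_ ?_
  · refine sup_le (sup_le (sup_le ?_ ?_) ?_) ?_ <;>
      exact Subgroup.zpowers_le.2 (Subgroup.subset_closure (by simp))
  · rw [Subgroup.closure_le]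
    rintro x (rfl | rfl | rfl | rfl)
    exacts [S3_le_S2 (S4_le_S3 w5_mem_S4), S3_le_S2 (S4_le_S3 w4_mem_S4), S3_le_S2 w3_mem_S3,
      w2_mem_S2]

theorem S3_eq : S3 = Subgroup.closure {w 5, w 4, w 3} := by
  refine le_antisymm ?_ ?_
  · refine sup_le (sup_le ?_ ?_) ?_ <;>
      exact Subgroup.zpowers_le.2 (Subgroup.subset_closure (by simp))
  · rw [Subgroup.closure_le]
    rintro x (rfl | rfl | rfl)
    exacts [S4_le_S3 w5_mem_S4, S4_le_S3 w4_mem_S4, w3_mem_S3]

theorem mem_comm_of_conj {H : Subgroup G} {u v : G} (hu : u ∈ H) (hn : u ∈ Us)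
    (hN : u ∈ Subgroup.normalizer ((⁅H, Us⁆ : Subgroup G) : Set G))
    (e : gb⁻¹ * u * gb⁻¹⁻¹ = u * v) : v ∈ ⁅H, Us⁆ := by
  have h : ⁅gb⁻¹, u⁆ ∈ ⁅H, Us⁆ := Subgroup.commutator_comm Us H ▸
    Subgroup.commutator_mem_commutator (inv_mem b_mem_Us) hu
  rw [commutatorElement_def, e] at h
  exact (Subgroup.mem_normalizer_iff.1 hN v).2 h

theorem mem_normalizer_comm' {H : Subgroup G} {u : G} (hu : u ∈ Us)
    (hH : u ∈ Subgroup.normalizer (H : Set G)) :
    u ∈ Subgroup.normalizer ((⁅H, Us⁆ : Subgroup G) : Set G) := by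
  have key : ∀ {K : Subgroup G}, u ∈ Subgroup.normalizer (K : Set G) →
      K.map (MulAut.conj u).toMonoidHom = K := by
    intro K hK
    ext z
    constructor
    · rintro ⟨y, hy, rfl⟩
      exact (Subgroup.mem_normalizer_iff.1 hK y).1 hy
    · intro hz
      refine ⟨u⁻¹ * z * u, (Subgroup.mem_normalizer_iff.1 hK _).2 ?_, by simp [mul_assoc]⟩
      simpa [mul_assoc] using hz
  have e : (⁅H, Us⁆).map (MulAut.conj u).toMonoidHom = ⁅H, Us⁆ := by
    rw [Subgroup.map_commutator, key hH, key (Subgroup.le_normalizer hu)]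
  rw [Subgroup.mem_normalizer_iff]
  intro v
  conv_rhs => rw [← e]
  exact (Subgroup.mem_map_iff_mem (f := (MulAut.conj u).toMonoidHom) (MulAut.conj u).injective).symm

theorem commutator_S2_Us : ⁅S2, Us⁆ = S3 := by
  have hn := genU_norm (fun i a b => norm3 (i := i) a b) b_inv_norm3
  have h5 : S5 ≤ S3 := le_sup_left.trans S4_le_S3
  obtain ⟨c1, c2, c3, c4, c5⟩ := conj_b
  have k2 := comm_b b_norm3 c2 w3_mem_S3 (norm3 (by norm_num) (by norm_num))
  have k3 := comm_b b_norm3 c3 (S4_le_S3 w4_mem_S4) (norm3 (by norm_num) (by norm_num))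
  have k4 := comm_b b_norm3 (c4.trans (mul_one _).symm) (one_mem S3) (norm3 (by norm_num) (by norm_num))
  have k5 := comm_b b_norm3 (c5.trans (mul_one _).symm) (one_mem S3) (norm3 (by norm_num) (by norm_num))
  refine le_antisymm ?_ ?_
  · rw [S2_eq, Us_eq]
    refine commutator_closure_le (fun a ha => hn a ?_) hn ?_
    · rcases ha with rfl | rfl | rfl | rfl <;> simp [genU]
    rintro a (rfl | rfl | rfl | rfl) b (rfl | rfl | rfl | rfl | rfl | rfl)
    all_goals first
      | exact k2.1 | exact k3.1 | exact k4.1 | exact k5.1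
      | exact comm_of_pos h5 (by norm_num) (by norm_num) (by norm_num) (by norm_num)
  · have u2 : w 2 ∈ Us := U1_le_Us (S2_le_U1 w2_mem_S2)
    have m3 : w 3 ∈ S2 := S3_le_S2 w3_mem_S3
    have u3 : w 3 ∈ Us := U1_le_Us (S2_le_U1 m3)
    have h3 : w 3 ∈ ⁅S2, Us⁆ := mem_comm_of_conj w2_mem_S2 u2
      (mem_normalizer_comm' u2 (norm2 (by norm_num) (by norm_num))) c2
    have h4 : w 4 ∈ ⁅S2, Us⁆ := mem_comm_of_conj m3 u3
      (mem_normalizer_comm' u3 (norm2 (by norm_num) (by norm_num))) c3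
    have h5' : w 5 ^ 3 ∈ ⁅S2, Us⁆ := by
      have := Subgroup.commutator_mem_commutator m3 u2
      rw [commutatorElement_def,
        conj_w (i := 3) (j := 2) (by norm_num) (by norm_num) (by norm_num) (by norm_num),
        (commute_S5 (i := 2) (by norm_num) (by norm_num) _ (w5_pow_mem _)).eq,
        mul_inv_cancel_right] at this
      exact this
    have h55 : w 5 ∈ ⁅S2, Us⁆ := by
      have := pow_mem h5' 2
      rwa [← pow_mul, show 3 * 2 = 5 + 1 from rfl, pow_succ, pow_five 5 (by norm_num), one_mul] at this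
    exact sup_le (sup_le (Subgroup.zpowers_le.2 h55) (Subgroup.zpowers_le.2 h4))
      (Subgroup.zpowers_le.2 h3)

theorem commutator_S3_Us : ⁅S3, Us⁆ = S4 := by
  have hn := genU_norm (fun i a b => norm4 (i := i) a b) b_inv_norm4
  have h5 : S5 ≤ S4 := le_sup_left
  obtain ⟨c1, c2, c3, c4, c5⟩ := conj_b
  have k3 := comm_b b_norm4 c3 w4_mem_S4 (norm4 (by norm_num) (by norm_num))
  have k4 := comm_b b_norm4 (c4.trans (mul_one _).symm) (one_mem S4) (norm4 (by norm_num) (by norm_num))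
  have k5 := comm_b b_norm4 (c5.trans (mul_one _).symm) (one_mem S4) (norm4 (by norm_num) (by norm_num))
  refine le_antisymm ?_ ?_
  · rw [S3_eq, Us_eq]
    refine commutator_closure_le (fun a ha => hn a ?_) hn ?_
    · rcases ha with rfl | rfl | rfl <;> simp [genU]
    rintro a (rfl | rfl | rfl) b (rfl | rfl | rfl | rfl | rfl | rfl)
    all_goals first
      | exact k3.1 | exact k4.1 | exact k5.1
      | exact comm_of_pos h5 (by norm_num) (by norm_num) (by norm_num) (by norm_num)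
  · have u3 : w 3 ∈ Us := U1_le_Us (S2_le_U1 (S3_le_S2 w3_mem_S3))
    have u2 : w 2 ∈ Us := U1_le_Us (S2_le_U1 w2_mem_S2)
    have h4 : w 4 ∈ ⁅S3, Us⁆ := mem_comm_of_conj w3_mem_S3 u3
      (mem_normalizer_comm' u3 (norm3 (by norm_num) (by norm_num))) c3
    have h5' : w 5 ^ 3 ∈ ⁅S3, Us⁆ := by
      have := Subgroup.commutator_mem_commutator w3_mem_S3 u2
      rw [commutatorElement_def,
        conj_w (i := 3) (j := 2) (by norm_num) (by norm_num) (by norm_num) (by norm_num),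
        (commute_S5 (i := 2) (by norm_num) (by norm_num) _ (w5_pow_mem _)).eq,
        mul_inv_cancel_right] at this
      exact this
    have h55 : w 5 ∈ ⁅S3, Us⁆ := by
      have := pow_mem h5' 2
      rwa [← pow_mul, show 3 * 2 = 5 + 1 from rfl, pow_succ, pow_five 5 (by norm_num), one_mul] at this
    exact sup_le (Subgroup.zpowers_le.2 h55) (Subgroup.zpowers_le.2 h4)

theorem isPGroup_Us : IsPGroup 5 ↥Us :=
  IsPGroup.of_card (n := 6) (by rw [card_Us]; norm_num)

/-- A subgroup of index five in `U` contains `S2`. -/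
theorem S2_le_of_card {M : Subgroup G} (hM : M ≤ Us) (hc : Nat.card M = 3125) : S2 ≤ M := by
  have := finite_Us
  have hidx : (M.subgroupOf Us).index = 5 := by
    have h := (M.subgroupOf Us).card_mul_index
    rw [Nat.card_congr (Subgroup.subgroupOfEquivOfLe hM).toEquiv, hc, card_Us] at h
    omega
  have hn : (M.subgroupOf Us).Normal := Subgroup.normal_of_index_eq_minFac_card (by
    rw [hidx, card_Us]; norm_num)
  let q := QuotientGroup.mk' (M.subgroupOf Us)
  have hcyc : IsCyclic (↥Us ⧸ M.subgroupOf Us) := isCyclic_of_prime_card (p := 5) (by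
    rw [← hidx]; rfl)
  rw [← commutator_Us, Subgroup.commutator_le]
  intro x hx y hy
  have hcomm : q ⟨x, hx⟩ * q ⟨y, hy⟩ = q ⟨y, hy⟩ * q ⟨x, hx⟩ := by
    obtain ⟨g, hg⟩ := IsCyclic.exists_generator (α := ↥Us ⧸ M.subgroupOf Us)
    obtain ⟨i, hi⟩ := hg (q ⟨x, hx⟩)
    obtain ⟨j, hj⟩ := hg (q ⟨y, hy⟩)
    rw [← hi, ← hj]
    exact ((Commute.refl g).zpow_zpow i j).eq
  have h1 : q (⟨x, hx⟩ * ⟨y, hy⟩ * (⟨x, hx⟩ : Us)⁻¹ * (⟨y, hy⟩ : Us)⁻¹) = 1 := by
    simp only [map_mul, map_inv]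
    rw [hcomm, mul_assoc (q ⟨y, hy⟩), mul_inv_cancel, mul_one, mul_inv_cancel]
  have h2 := Subgroup.mem_subgroupOf.1 ((QuotientGroup.eq_one_iff (N := M.subgroupOf Us) _).1 h1)
  rw [commutatorElement_def]
  simpa using h2

theorem Rs_le_Us : Rs ≤ Us := sup_le (S2_le_U1.trans U1_le_Us) (Subgroup.zpowers_le.2 b_mem_Us)

theorem Rs_commute_w4 : ∀ k ∈ Rs, Commute (w 4) k :=
  forall_mem_sup commute_S2_w4 b_rels.2.2.2.1

theorem Rs_eq : Us ⊓ Subgroup.centralizer (S4 : Set G) = Rs := by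
  have := finite_Us
  have hle : Rs ≤ Us ⊓ Subgroup.centralizer (S4 : Set G) := by
    refine le_inf Rs_le_Us fun k hk => ?_
    rw [Subgroup.mem_centralizer_iff]
    intro t ht
    refine forall_mem_sup (t := k) (fun c hc => ?_) (Rs_commute_w4 k hk).symm t ht |>.symm
    obtain ⟨n, rfl⟩ := hc
    refine (Commute.zpow_right ?_ n)
    have h5 : ∀ z ∈ Rs, Commute (w 5) z := by
      refine forall_mem_sup (forall_mem_sup (forall_mem_sup (forall_mem_sup ?_ ?_) ?_) ?_) b_rels.2.2.2.2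
      · exact commute_S5 (by norm_num) (by norm_num)
      all_goals exact commute_w (by norm_num) (by norm_num) (by norm_num) (by norm_num) rfl
    exact (h5 k hk).symm
  have : Finite ↥(Us ⊓ Subgroup.centralizer (S4 : Set G)) :=
    Finite.of_injective _
      (Subgroup.inclusion_injective (inf_le_left : Us ⊓ Subgroup.centralizer (S4 : Set G) ≤ Us))
  refine (Subgroup.eq_of_le_of_card_ge (H := Rs) hle ?_).symm
  have hd := Subgroup.card_dvd_of_le (inf_le_left : Us ⊓ Subgroup.centralizer (S4 : Set G) ≤ Us)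
  have hne : Nat.card ↥(Us ⊓ Subgroup.centralizer (S4 : Set G)) ≠ 15625 := by
    intro h
    have e := Subgroup.eq_of_le_of_card_ge (inf_le_left : Us ⊓ Subgroup.centralizer (S4 : Set G) ≤ Us)
      (by rw [h, card_Us])
    have h1 : w 1 ∈ Subgroup.centralizer (S4 : Set G) := (e.ge (U1_le_Us w1_mem_U1)).2
    exact not_commute_w (i := 4) (j := 1) (by norm_num) (by norm_num) (by norm_num) (by norm_num)
      (by decide) (Subgroup.mem_centralizer_iff.1 h1 _ w4_mem_S4)
  rw [card_Us, show (15625 : ℕ) = 5 ^ 6 by norm_num, Nat.dvd_prime_pow (by norm_num)] at hd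
  obtain ⟨m, hm, e⟩ := hd
  rw [card_Rs, e]
  interval_cases m <;> simp_all

/-- `U1` is the subgroup of index five whose commutators with `w2` are central in `U`. -/
theorem eq_U1 {M : Subgroup G} (hM : M ≤ Us) (hc : Nat.card M = 3125)
    (h : ⁅M, M⁆ ≤ Subgroup.centralizer (Us : Set G)) : M = U1 := by
  have := finite_U1; have := finite_Us
  have : Finite M := Finite.of_injective _ (Subgroup.inclusion_injective hM)
  by_contra hne
  obtain ⟨x, hxM, hxU⟩ : ∃ x, x ∈ M ∧ x ∉ U1 := by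
    by_contra hh
    push_neg at hh
    exact hne (Subgroup.eq_of_le_of_card_ge hh (by rw [hc, card_U1]))
  have htop : U1 ⊔ Subgroup.zpowers x = Us := by
    refine Subgroup.eq_of_le_of_card_ge (sup_le U1_le_Us (Subgroup.zpowers_le.2 (hM hxM))) ?_
    have hn : x ∈ Subgroup.normalizer (U1 : Set G) :=
      (sup_le Subgroup.le_normalizer (Subgroup.zpowers_le.2 b_norm1) : Us ≤ _) (hM hxM)
    obtain hd := Subgroup.card_dvd_of_le (sup_le U1_le_Us (Subgroup.zpowers_le.2 (hM hxM)))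
    have : Finite ↥(U1 ⊔ Subgroup.zpowers x) := Finite.of_injective _
      (Subgroup.inclusion_injective (sup_le U1_le_Us (Subgroup.zpowers_le.2 (hM hxM))))
    have hd2 := Subgroup.card_dvd_of_le (le_sup_left : U1 ≤ U1 ⊔ Subgroup.zpowers x)
    have hne2 : Nat.card ↥(U1 ⊔ Subgroup.zpowers x) ≠ 3125 := by
      intro h2
      have e := Subgroup.eq_of_le_of_card_ge (le_sup_left : U1 ≤ U1 ⊔ Subgroup.zpowers x)
        (by rw [h2, card_U1])
      exact hxU (e ▸ (le_sup_right : Subgroup.zpowers x ≤ _) (Subgroup.mem_zpowers x))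
    rw [card_Us, show (15625 : ℕ) = 5 ^ 6 by norm_num, Nat.dvd_prime_pow (by norm_num)] at hd
    obtain ⟨m, hm, e⟩ := hd
    rw [card_U1, e] at hd2
    rw [card_Us, e]
    interval_cases m <;> simp_all
  -- the elements of `U` whose commutator with `w 2` is central
  let Z := Subgroup.centralizer (Us : Set G)
  have hZ : ∀ y ∈ Us, ∀ v ∈ Z, y * v * y⁻¹ ∈ Z := fun y hy v hv => by
    rw [Subgroup.mem_centralizer_iff.1 hv y hy, mul_inv_cancel_right]
    exact hv
  have hZn : ∀ y ∈ Us, y ∈ Subgroup.normalizer (Z : Set G) := fun y hy => by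
    rw [Subgroup.mem_normalizer_iff]
    refine fun v => ⟨hZ y hy v, fun hv => ?_⟩
    simpa [mul_assoc] using hZ y⁻¹ (inv_mem hy) _ hv
  have hle : ⁅Subgroup.closure ({x, w 5, w 4, w 3, w 2, w 1} : Set G), Subgroup.closure {w 2}⁆ ≤ Z := by
    have hm2 : w 2 ∈ Us := U1_le_Us (S2_le_U1 w2_mem_S2)
    have hS5Z : S5 ≤ Z := by
      rintro _ ⟨n, rfl⟩
      rw [Subgroup.mem_centralizer_iff]
      intro t ht
      refine (Commute.zpow_left ?_ n).eq.symm
      refine forall_mem_sup (forall_mem_sup (forall_mem_sup (forall_mem_sup (forall_mem_sup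
        (commute_S5 (by norm_num) (by norm_num)) ?_) ?_) ?_) ?_) b_rels.2.2.2.2 t ht <;>
        exact commute_w (by norm_num) (by norm_num) (by norm_num) (by norm_num) rfl
    refine commutator_closure_le (fun a ha => hZn a ?_) (fun b hb => hb ▸ hZn _ hm2) ?_
    · rcases ha with rfl | ha
      · exact hM hxM
      · rcases ha with rfl | rfl | rfl | rfl | rfl
        exacts [U1_le_Us (S2_le_U1 (S3_le_S2 (S4_le_S3 w5_mem_S4))),
          U1_le_Us (S2_le_U1 (S3_le_S2 (S4_le_S3 w4_mem_S4))),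
          U1_le_Us (S2_le_U1 (S3_le_S2 w3_mem_S3)), hm2, U1_le_Us w1_mem_U1]
    rintro a (rfl | rfl | rfl | rfl | rfl | rfl) b rfl
    all_goals first
      | exact comm_of_pos hS5Z (by norm_num) (by norm_num) (by norm_num) (by norm_num)
      | (rw [← commutatorElement_def]
         exact h (Subgroup.commutator_mem_commutator hxM (S2_le_of_card hM hc w2_mem_S2)))
  have hUc : Us ≤ Subgroup.closure ({x, w 5, w 4, w 3, w 2, w 1} : Set G) := by
    rw [← htop]
    refine sup_le (sup_le (sup_le (sup_le (sup_le ?_ ?_) ?_) ?_) ?_) ?_ <;>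
      exact Subgroup.zpowers_le.2 (Subgroup.subset_closure (by simp))
  have hb := hle (Subgroup.commutator_mem_commutator (hUc b_mem_Us) (Subgroup.subset_closure rfl))
  rw [commutatorElement_def] at hb
  obtain ⟨-, e2, -⟩ := conj_b
  rw [inv_inv] at e2
  have e : gb * w 2 * gb⁻¹ * (w 2)⁻¹ = gb * (w 2 * (w 3)⁻¹ * (w 2)⁻¹) * gb⁻¹ := by
    have h2 : w 2 = gb * (w 2 * w 3) * gb⁻¹ := by rw [← e2]; group
    calc gb * w 2 * gb⁻¹ * (w 2)⁻¹
        = gb * w 2 * gb⁻¹ * (gb * (w 2 * w 3) * gb⁻¹)⁻¹ := by rw [← h2]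
      _ = _ := by group
  rw [e] at hb
  have h3 := (Subgroup.mem_normalizer_iff.1 (hZn _ b_mem_Us) _).2 hb
  have h4 := inv_mem ((Subgroup.mem_normalizer_iff.1 (hZn _ (U1_le_Us (S2_le_U1 w2_mem_S2))) _).2 h3)
  rw [inv_inv] at h4
  exact not_commute_w (i := 2) (j := 3) (by norm_num) (by norm_num) (by norm_num) (by norm_num)
    (by decide) (Subgroup.mem_centralizer_iff.1 h4 _ (U1_le_Us (S2_le_U1 w2_mem_S2)))

theorem commutator_U1 : ⁅U1, U1⁆ ≤ Subgroup.centralizer (Us : Set G) := by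
  have hU : U1 = Subgroup.closure {w 5, w 4, w 3, w 2, w 1} := by
    refine le_antisymm ?_ ((Subgroup.closure_le _).2 ?_)
    · refine sup_le (sup_le (sup_le (sup_le ?_ ?_) ?_) ?_) ?_ <;>
        exact Subgroup.zpowers_le.2 (Subgroup.subset_closure (by simp))
    · rintro x (rfl | rfl | rfl | rfl | rfl)
      exacts [S2_le_U1 (S3_le_S2 (S4_le_S3 w5_mem_S4)), S2_le_U1 (S3_le_S2 (S4_le_S3 w4_mem_S4)),
        S2_le_U1 (S3_le_S2 w3_mem_S3), S2_le_U1 w2_mem_S2, w1_mem_U1]
  have hle : ⁅U1, U1⁆ ≤ S5 := by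
    rw [hU]
    refine commutator_closure_le ?_ ?_ ?_
    · rintro a (rfl | rfl | rfl | rfl | rfl) <;> exact norm5 (by norm_num) (by norm_num)
    · rintro a (rfl | rfl | rfl | rfl | rfl) <;> exact norm5 (by norm_num) (by norm_num)
    rintro a (rfl | rfl | rfl | rfl | rfl) b (rfl | rfl | rfl | rfl | rfl) <;>
      exact comm_of_pos le_rfl (by norm_num) (by norm_num) (by norm_num) (by norm_num)
  refine hle.trans ?_
  rintro _ ⟨n, rfl⟩
  rw [Subgroup.mem_centralizer_iff]
  intro t ht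
  refine (Commute.zpow_left ?_ n).eq.symm
  refine forall_mem_sup (forall_mem_sup (forall_mem_sup (forall_mem_sup (forall_mem_sup
    (commute_S5 (by norm_num) (by norm_num)) ?_) ?_) ?_) ?_) b_rels.2.2.2.2 t ht <;>
    exact commute_w (by norm_num) (by norm_num) (by norm_num) (by norm_num) rfl

theorem map_centralizer' (φ : G ≃* G) (K : Subgroup G) :
    (Subgroup.centralizer (K : Set G)).map φ.toMonoidHom =
      Subgroup.centralizer ((K.map φ.toMonoidHom : Subgroup G) : Set G) := by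
  ext z
  rw [Subgroup.mem_centralizer_iff]
  constructor
  · rintro ⟨y, hy, rfl⟩ _ ⟨k, hk, rfl⟩
    show φ k * φ y = φ y * φ k
    rw [← map_mul, ← map_mul, Subgroup.mem_centralizer_iff.1 hy k hk]
  · intro h
    refine ⟨φ.symm z, Subgroup.mem_centralizer_iff.2 fun k hk => φ.injective ?_, φ.apply_symm_apply z⟩
    simpa using h (φ k) ⟨k, hk, rfl⟩

/-- An automorphism keeping `U` keeps the named subgroups. -/
theorem map_canon (φ : G ≃* G) (h : Us.map φ.toMonoidHom = Us) :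
    U1.map φ.toMonoidHom = U1 ∧ S3.map φ.toMonoidHom = S3 ∧ Rs.map φ.toMonoidHom = Rs := by
  have h2 : S2.map φ.toMonoidHom = S2 := by
    conv_lhs => rw [← commutator_Us]
    rw [Subgroup.map_commutator, h, commutator_Us]
  have h3 : S3.map φ.toMonoidHom = S3 := by
    conv_lhs => rw [← commutator_S2_Us]
    rw [Subgroup.map_commutator, h, h2, commutator_S2_Us]
  have h4 : S4.map φ.toMonoidHom = S4 := by
    conv_lhs => rw [← commutator_S3_Us]
    rw [Subgroup.map_commutator, h, h3, commutator_S3_Us]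
  refine ⟨eq_U1 (h ▸ Subgroup.map_mono U1_le_Us) ?_ ?_, h3, ?_⟩
  · rw [Nat.card_congr (Subgroup.equivMapOfInjective U1 φ.toMonoidHom φ.injective).toEquiv.symm,
      card_U1]
  · rw [← Subgroup.map_commutator]
    refine (Subgroup.map_mono commutator_U1).trans (le_of_eq ?_)
    rw [map_centralizer', h]
  · conv_lhs => rw [← Rs_eq]
    rw [Subgroup.map_inf _ _ _ φ.injective, h, map_centralizer', h4, Rs_eq]

end Cfsg.Agent.LyOut
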