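import Mathlib.Data.List.Basic

/-! Generated: the words of the group generated by the five-cycle, a transposition and their product of order four. -/

namespace Cfsg.Agent.LyOut

/-- The 120 elements of the symmetric group of five points as words. -/
def fiveWords : List (List Nat) := [
  [],
  [0],
  [1],
  [2],
  [0,0],
  [0,1],
  [0,2],
  [1,0],
  [1,2],
  [2,0],
  [2,1],
  [2,2],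
  [0,0,0],
  [0,0,1],
  [0,1,0],
  [0,1,2],
  [0,2,0],
  [0,2,1],
  [0,2,2],
  [1,0,0],
  [1,0,1],
  [1,0,2],
  [1,2,0],
  [1,2,1],
  [1,2,2],
  [2,0,0],
  [2,0,1],
  [2,0,2],
  [2,1,0],
  [2,1,2],
  [2,2,0],
  [2,2,1],
  [2,2,2],
  [0,0,0,0],
  [0,0,0,1],
  [0,0,1,0],
  [0,1,0,0],
  [0,1,0,1],
  [0,1,0,2],
  [0,1,2,0],
  [0,1,2,1],
  [0,1,2,2],
  [0,2,0,1],
  [0,2,0,2],
  [0,2,1,0],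
  [0,2,2,1],
  [0,2,2,2],
  [1,0,0,0],
  [1,0,0,1],
  [1,0,1,0],
  [1,0,1,2],
  [1,0,2,0],
  [1,0,2,1],
  [1,0,2,2],
  [1,2,0,0],
  [1,2,0,1],
  [1,2,0,2],
  [1,2,1,0],
  [1,2,1,2],
  [1,2,2,0],
  [1,2,2,1],
  [2,0,0,1],
  [2,0,2,1],
  [2,1,0,0],
  [2,1,0,2],
  [2,1,2,0],
  [2,1,2,2],
  [2,2,0,1],
  [2,2,0,2],
  [2,2,1,0],
  [2,2,1,2],
  [2,2,2,0],
  [0,0,1,0,0],
  [0,0,1,0,1],
  [0,0,1,0,2],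
  [0,1,0,0,0],
  [0,1,0,0,1],
  [0,1,0,1,0],
  [0,1,0,1,2],
  [0,1,0,2,0],
  [0,1,0,2,2],
  [0,1,2,0,1],
  [0,1,2,0,2],
  [0,1,2,1,2],
  [0,1,2,2,0],
  [0,1,2,2,1],
  [0,2,0,2,1],
  [0,2,1,0,0],
  [0,2,2,1,0],
  [0,2,2,1,2],
  [1,0,0,0,0],
  [1,0,0,0,1],
  [1,0,0,1,0],
  [1,0,1,0,1],
  [1,0,1,2,0],
  [1,0,1,2,1],
  [1,0,2,2,1],
  [1,0,2,2,2],
  [1,2,0,0,1],
  [1,2,1,0,0],
  [1,2,1,2,0],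
  [1,2,1,2,2],
  [1,2,2,0,1],
  [1,2,2,0,2],
  [2,0,0,1,0],
  [2,0,2,1,0],
  [2,1,0,0,0],
  [2,1,2,0,1],
  [2,1,2,2,0],
  [2,1,2,2,1],
  [2,2,1,0,0],
  [2,2,1,2,2],
  [0,0,1,0,2,0],
  [0,1,0,1,2,0],
  [0,1,0,2,2,2],
  [0,1,2,1,2,2],
  [0,1,2,2,0,1],
  [0,1,2,2,0,2],
  [1,0,1,2,0,2],
  [1,2,0,0,1,0]]

end Cfsg.Agent.LyOut
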