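import Cfsg.Agent.LyOut.PiGens

/-!
# An automorphism keeping `U` keeps ⟨a, b, c⟩ and ⟨a, b, c, d⟩
-/

set_option autoImplicit false
set_option maxRecDepth 100000
set_option maxHeartbeats 1000000

namespace Cfsg.Agent.LyOut

open Cfsg.Spor Cfsg.Agent.CosetCert Cfsg.Agent.LyMat

variable (F : Facts)

theorem map_conj_of_norm {K : Subgroup G} {g : G} (hg : g ∈ Subgroup.normalizer (K : Set G)) :
    K.map (MulAut.conj g).toMonoidHom = K := by
  ext x
  constructor
  · rintro ⟨k, hk, rfl⟩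
    exact (Subgroup.mem_normalizer_iff.1 hg k).1 hk
  · intro hx
    exact ⟨g⁻¹ * x * g, (Subgroup.mem_normalizer_iff.1 hg _).2 (by simpa [mul_assoc] using hx),
      by simp [mul_assoc]⟩

theorem norm_of_map {K : Subgroup G} {g : G} (h : K.map (MulAut.conj g).toMonoidHom = K) :
    g ∈ Subgroup.normalizer (K : Set G) := by
  rw [Subgroup.mem_normalizer_iff]
  intro k
  conv_rhs => rw [← h]
  exact (Subgroup.mem_map_iff_mem (f := (MulAut.conj g).toMonoidHom) (MulAut.conj g).injective).symm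

theorem map_normalizer {K : Subgroup G} (φ : G ≃* G) (h : K.map φ.toMonoidHom = K) {g : G}
    (hg : g ∈ Subgroup.normalizer (K : Set G)) : φ g ∈ Subgroup.normalizer (K : Set G) := by
  refine norm_of_map ?_
  have e : φ.toMonoidHom.comp (MulAut.conj g).toMonoidHom =
      (MulAut.conj (φ g)).toMonoidHom.comp φ.toMonoidHom :=
    MonoidHom.ext fun x => show φ (g * x * g⁻¹) = φ g * φ x * (φ g)⁻¹ by rw [map_mul, map_mul, map_inv]
  conv_lhs => rw [← h]
  rw [Subgroup.map_map, ← e, ← Subgroup.map_map, map_conj_of_norm hg, h]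

theorem map_symm {K : Subgroup G} (φ : G ≃* G) (h : K.map φ.toMonoidHom = K) :
    K.map φ.symm.toMonoidHom = K := by
  conv_lhs => rw [← h]
  rw [Subgroup.map_map]
  exact (congrArg (fun f => K.map f) (MonoidHom.ext fun x => φ.symm_apply_apply x)).trans
    (Subgroup.map_id K)

include F in
theorem norm_Us_le_P1 {g : G} (hg : g ∈ Subgroup.normalizer (Us : Set G)) : g ∈ P1 := by
  obtain ⟨h1, -, hR⟩ := map_canon (MulAut.conj g) (map_conj_of_norm hg)
  exact mem_P1_of_norm (norm_Rs_le F (norm_of_map hR)) (norm_of_map h1)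

theorem hbh_check : chk (hW ++ wW 0 ++ FreeGroup.invRev hW) (pW (wW 0) 2) = true := by
  decide +kernel

theorem hbh : gh * gb * gh⁻¹ = gb ^ 2 := by
  simpa only [el_append, el_inv, el_pW] using el_eq hbh_check

theorem gh_norm : gh ∈ Subgroup.normalizer (Us : Set G) := by
  have := finite_Us
  refine norm_sup gh_NU ?_
  rw [show gh * w 0 * gh⁻¹ = gb ^ 2 from hbh]
  exact pow_mem b_mem_Us 2

theorem K0_norm : K0 ≤ Subgroup.normalizer (Us : Set G) := by
  have := finite_Us
  have hc : ga ^ 2 * gb * (ga ^ 2)⁻¹ = gb := by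
    have h : chk (pL 0 2 ++ wW 0 ++ FreeGroup.invRev (pL 0 2)) (wW 0) = true := by decide +kernel
    simpa only [el_append, el_inv, el_pL] using el_eq h
  have h2 : ga ^ 2 ∈ Subgroup.normalizer (Us : Set G) := by
    refine norm_sup (pow_mem ga_NU 2) ?_
    rw [show ga ^ 2 * w 0 * (ga ^ 2)⁻¹ = gb from hc]
    exact b_mem_Us
  refine sup_le (sup_le (U1_le_Us.trans Subgroup.le_normalizer) (Subgroup.zpowers_le.2 ?_))
    (Subgroup.zpowers_le.2 h2)
  rw [show ga ^ 4 = (ga ^ 2) ^ 2 by group]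
  exact pow_mem h2 2

/-- The coordinates of the conjugates of `w 3`, `w 4`, `w 5` under the third generator. -/
def gS3 : Nat → Wd
  | 3 => ser 0 0 1 1 2
  | 4 => ser 0 0 4 3 4
  | _ => ser 0 0 0 0 4

/-- The image of a letter `c_i` under conjugation by `z`. -/
def zImg : Fin 10 × Bool → Wd
  | (i, true) => zW (i.val - 5)
  | (i, false) => FreeGroup.invRev (zW (i.val - 5))

theorem z_img_w {i : Nat} (hi : i = 3 ∨ i = 4 ∨ i = 5) :
    gz⁻¹ * w i * gz = el ((wW i).map zImg).flatten := by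
  have key : ∀ l : Wd, (∀ p ∈ l, 5 ≤ p.1.val ∧ p.2 = true) → gz⁻¹ * el l * gz = el (l.map zImg).flatten := by
    intro l
    induction l with
    | nil => intro _; simp [el_nil]
    | cons p l ih =>
      intro h
      rw [List.map_cons, List.flatten_cons, el_append, show p :: l = [p] ++ l from rfl, el_append,
        ← ih (fun q hq => h q (List.mem_cons_of_mem _ hq))]
      obtain ⟨j, b⟩ := p
      obtain ⟨h5, rfl : b = true⟩ := h _ (List.mem_cons_self)
      have e : gz⁻¹ * el [(j, true)] * gz = el (zImg (j, true)) := by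
        fin_cases j <;> first
          | exact absurd h5 (by decide)
          | exact z_c1 | exact z_c2 | exact z_c3 | exact z_c4 | exact z_c5
      rw [← e]
      group
  refine key _ ?_
  rcases hi with rfl | rfl | rfl <;> decide +kernel

theorem g_S3_check : ([3, 4, 5] : List Nat).all (fun i =>
    chk ([(0, false), (1, false)] ++ ((wW i).map zImg).flatten ++ [(1, true), (0, true)]) (gS3 i)) =
    true := by
  decide +kernel

theorem el_ser_S3 (e3 e4 e5 : Nat) : el (ser 0 0 e3 e4 e5) ∈ S3 := by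
  simp only [ser, el_append, el_pW, pow_zero, one_mul]
  exact mul_mem (mul_mem (pow_mem w3_mem_S3 _) (pow_mem (S4_le_S3 w4_mem_S4) _))
    (pow_mem (S4_le_S3 w5_mem_S4) _)

theorem gg_norm3 : gg ∈ Subgroup.normalizer (S3 : Set G) := by
  have := finite_S3
  rw [← inv_inv gg]
  refine inv_mem (mem_normalizer_of_conj_mem fun k hk => ?_)
  have e : ∀ i, i = 3 ∨ i = 4 ∨ i = 5 → w i ∈ S3.comap (MulAut.conj gg⁻¹).toMonoidHom := by
    intro i hi
    have h := el_eq (List.all_eq_true.1 g_S3_check i (by simp; tauto))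
    rw [el_append, el_append, ← z_img_w hi] at h
    simp only [Subgroup.mem_comap, MulEquiv.coe_toMonoidHom, MulAut.conj_apply, inv_inv]
    have e2 : gg⁻¹ * w i * gg = el (gS3 i) := by
      rw [← h, show el [((0 : Fin 10), false), (1, false)] = ga⁻¹ * gb⁻¹ by
          rw [show ga⁻¹ = el [((0 : Fin 10), false)] from (el_inv [((0 : Fin 10), true)]).symm,
            show gb⁻¹ = el [((1 : Fin 10), false)] from (el_inv [((1 : Fin 10), true)]).symm, ← el_append]
          rfl,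
        show el [((1 : Fin 10), true), (0, true)] = gb * ga by
          show _ = el [((1 : Fin 10), true)] * el [((0 : Fin 10), true)]
          rw [← el_append]; rfl]
      show (gz * gb * ga)⁻¹ * w i * (gz * gb * ga) = _
      group
    rw [e2]
    rcases hi with rfl | rfl | rfl <;> exact el_ser_S3 _ _ _
  have hle : S3 ≤ S3.comap (MulAut.conj gg⁻¹).toMonoidHom :=
    sup_le (sup_le (Subgroup.zpowers_le.2 (e 5 (by simp))) (Subgroup.zpowers_le.2 (e 4 (by simp))))
      (Subgroup.zpowers_le.2 (e 3 (by simp)))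
  exact hle hk

theorem norm_Us_norm3 {g : G} (hg : g ∈ Subgroup.normalizer (Us : Set G)) :
    g ∈ Subgroup.normalizer (S3 : Set G) :=
  norm_of_map (map_canon (MulAut.conj g) (map_conj_of_norm hg)).2.1

theorem a_not_norm3 : ga ∉ Subgroup.normalizer (S3 : Set G) := by
  intro h
  have e := conj_a_check
  simp only [Bool.and_eq_true] at e
  have e3 : ga * w 3 * ga⁻¹ = el (ser 1 1 1 1 4) := by
    rw [← el_eq e.2.2.1, el_append, el_append,
      show el [((0 : Fin 10), false)] = ga⁻¹ from el_inv [((0 : Fin 10), true)]]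
  have h3 := (Subgroup.mem_normalizer_iff.1 h _).1 w3_mem_S3
  rw [e3] at h3
  simp only [ser, el_append, el_pW, pow_one] at h3
  have m2 : w 1 * w 2 * w 3 * w 4 * w 5 ^ 4 ∈ S2 := S3_le_S2 h3
  apply w1_not_mem
  have e1 : w 1 = (w 1 * w 2 * w 3 * w 4 * w 5 ^ 4) * (w 2 * w 3 * w 4 * w 5 ^ 4)⁻¹ := by group
  rw [e1]
  exact mul_mem m2 (inv_mem (mul_mem (mul_mem (mul_mem w2_mem_S2 (S3_le_S2 w3_mem_S3))
    (S3_le_S2 (S4_le_S3 w4_mem_S4))) (pow_mem (S3_le_S2 (S4_le_S3 w5_mem_S4)) 4)))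

theorem stab20_check : ((([[], [0], [0,0], [0,0,0], [0,0,0,0], [2], [0,2], [0,0,2], [0,0,0,2],
    [0,0,0,0,2], [2,2], [0,2,2], [0,0,2,2], [0,0,0,2,2], [0,0,0,0,2,2], [2,2,2], [0,2,2,2],
    [0,0,2,2,2], [0,0,0,2,2,2], [0,0,0,0,2,2,2]] : List (List Nat)).map
    fun l => evL (lst σ6) l).Nodup) := by
  decide +kernel

theorem card_closure_20 : 20 ≤ Nat.card ↥(Subgroup.closure ({σ6, μ6} : Set (Equiv.Perm (Fin 6)))) := by
  set P := Subgroup.closure ({σ6, μ6} : Set (Equiv.Perm (Fin 6)))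
  have hs : σ6 ∈ P := Subgroup.subset_closure (by simp)
  have hm : μ6 ∈ P := Subgroup.subset_closure (by simp)
  set L := ([[], [0], [0,0], [0,0,0], [0,0,0,0], [2], [0,2], [0,0,2], [0,0,0,2],
    [0,0,0,0,2], [2,2], [0,2,2], [0,0,2,2], [0,0,0,2,2], [0,0,0,0,2,2], [2,2,2], [0,2,2,2],
    [0,0,2,2,2], [0,0,0,2,2,2], [0,0,0,0,2,2,2]] : List (List Nat)) with hL
  have hy : ∀ i : Fin L.length, ∃ y : ↥P, (L.map fun l => evL (lst σ6) l)[i.val]'(by simp) = lst y.1 :=
    fun i => by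
      obtain ⟨y, hy, e⟩ := evL_mem hs hm hs L[i.val]
      exact ⟨⟨y, hy⟩, by rw [List.getElem_map, e]⟩
  choose f hf using hy
  have h := Nat.card_le_card_of_injective f fun i j e => Fin.ext <|
    ((hL ▸ stab20_check : (L.map fun l => evL (lst σ6) l).Nodup).getElem_inj_iff
      (hi := by simp) (hj := by simp)).1 (by rw [hf i, hf j, e])
  simpa [hL] using h

include F in
/-- An automorphism keeping `U` keeps ⟨a, b, c⟩. -/
theorem map_P1 (φ : G ≃* G) (hU : Us.map φ.toMonoidHom = Us) : P1.map φ.toMonoidHom = P1 := by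
  have := F.finite
  obtain ⟨hU1, hS3, -⟩ := map_canon φ hU
  have hX : ∀ x ∈ P1, φ x ∈ NU := fun x hx => map_normalizer φ hU1 (P1_le_normalizer hx)
  have hB : ∀ g ∈ Subgroup.normalizer (Us : Set G), g ∈ P1.map φ.toMonoidHom := fun g hg =>
    ⟨φ.symm g, norm_Us_le_P1 F (map_normalizer φ.symm (map_symm φ hU) hg), φ.apply_symm_apply g⟩
  have hbU : gb ∈ Subgroup.normalizer (Us : Set G) := Subgroup.le_normalizer b_mem_Us
  have hcard : Nat.card ↥(P1.map φ.toMonoidHom) = 1500000 := by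
    rw [← Nat.card_congr (Subgroup.equivMapOfInjective P1 φ.toMonoidHom φ.injective).toEquiv, card_P1]
  by_cases hXP : P1.map φ.toMonoidHom ≤ P1
  · exact Subgroup.eq_of_le_of_card_ge hXP (by rw [hcard, card_P1])
  exfalso
  obtain ⟨x, hx, hxP⟩ := SetLike.not_le_iff_exists.1 hXP
  -- the action of the image
  let fX : ↥(P1.map φ.toMonoidHom) →* ↥NU := Subgroup.inclusion (by
    rintro _ ⟨y, hy, rfl⟩
    exact hX y hy)
  let q := (pi F).comp fX
  have hker : q.ker = K0.subgroupOf (P1.map φ.toMonoidHom) := by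
    ext y
    exact ⟨fun h => mem_K0 F (g := fX y) h, fun h => pi_K0 F (g := fX y) h⟩
  have hK : K0 ≤ P1.map φ.toMonoidHom := fun k hk => hB k (K0_norm hk)
  have hP : Nat.card ↥q.range = 120 := by
    have h1 := q.ker.card_mul_index
    rw [Subgroup.index_ker, hker, Nat.card_congr (Subgroup.subgroupOfEquivOfLe hK).toEquiv,
      card_K0 F, hcard] at h1
    omega
  have hs : σ6 ∈ q.range := ⟨⟨gb, hB _ hbU⟩, pi_b F⟩
  have hm : μ6 ∈ q.range := ⟨⟨gh, hB _ gh_norm⟩, pi_h F⟩
  have hp : q ⟨x, hx⟩ 0 ≠ 0 := fun h => hxP ((pi_zero F).1 h)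
  -- the point stabiliser
  let P0 : Subgroup ↥q.range := MulAction.stabilizer ↥q.range (0 : Fin 6)
  have horb : ∀ i : Fin 6, ∃ p : ↥q.range, p • (0 : Fin 6) = i := by
    have hσ : ∀ a b : Fin 6, a ≠ 0 → b ≠ 0 → ∃ n : Fin 5, (σ6 ^ (n : ℕ)) a = b := by decide +kernel
    intro i
    by_cases hi : i = 0
    · exact ⟨1, by rw [one_smul, hi]⟩
    · obtain ⟨n, hn⟩ := hσ _ i hp hi
      exact ⟨⟨σ6, hs⟩ ^ (n : ℕ) * ⟨q ⟨x, hx⟩, ⟨_, rfl⟩⟩, hn⟩
  have hP0 : Nat.card ↥P0 = 20 := by
    have h1 := P0.card_mul_index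
    rw [MulAction.index_stabilizer, show MulAction.orbit ↥q.range (0 : Fin 6) = Set.univ from
      Set.eq_univ_of_forall horb, Set.ncard_univ, Nat.card_fin, hP] at h1
    omega
  set C := Subgroup.closure ({σ6, μ6} : Set (Equiv.Perm (Fin 6))) with hC
  have hCle : C ≤ P0.map q.range.subtype := by
    rw [hC, Subgroup.closure_le]
    rintro y (rfl | rfl)
    · exact ⟨⟨σ6, hs⟩, (by decide +kernel : σ6 0 = 0), rfl⟩
    · exact ⟨⟨μ6, hm⟩, (by decide +kernel : μ6 0 = 0), rfl⟩
  have hCeq : C = P0.map q.range.subtype := Subgroup.eq_of_le_of_card_ge hCle (by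
    rw [← Nat.card_congr (Subgroup.equivMapOfInjective P0 _ q.range.subtype_injective).toEquiv, hP0]
    exact card_closure_20)
  have hCn : C ≤ Subgroup.normalizer (Subgroup.zpowers σ6 : Set (Equiv.Perm (Fin 6))) := by
    rw [hC, Subgroup.closure_le]
    rintro y hy
    refine mem_normalizer_of_conj_mem fun k hk => ?_
    obtain ⟨n, rfl⟩ := hk
    rw [← conj_zpow]
    refine Subgroup.zpow_mem _ ?_ n
    rcases hy with rfl | rfl
    · simp
    · exact ⟨2, by decide +kernel⟩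
  have h0 : ∀ p ∈ q.range, p 0 = 0 → p * σ6 * p⁻¹ ∈ Subgroup.zpowers σ6 := fun p hp' h => by
    have hpC : p ∈ C := hCeq ▸ ⟨⟨p, hp'⟩, h, rfl⟩
    exact (Subgroup.mem_normalizer_iff.1 (hCn hpC) σ6).1 (Subgroup.mem_zpowers σ6)
  have hY : q.range ≤ Subgroup.closure ({σ6, μ6, γ6} : Set (Equiv.Perm (Fin 6))) := fun p hp' => by
    rcases le_or_mem hs hm h0 hp' with h | h
    · have hpC : p ∈ C := hCeq ▸ ⟨⟨p, hp'⟩, h, rfl⟩
      exact Subgroup.closure_mono (fun y hy => by rcases hy with rfl | rfl <;> simp) hpC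
    · exact h
  -- everything normalises `S3`
  let N3 : Subgroup ↥NU := (Subgroup.normalizer (S3 : Set G)).comap NU.subtype
  have hYN : Subgroup.closure ({σ6, μ6, γ6} : Set (Equiv.Perm (Fin 6))) ≤ N3.map (pi F) := by
    rw [Subgroup.closure_le]
    rintro y (rfl | rfl | rfl)
    · exact ⟨⟨gb, gb_NU⟩, norm_Us_norm3 hbU, pi_b F⟩
    · exact ⟨⟨gh, gh_NU⟩, norm_Us_norm3 gh_norm, pi_h F⟩
    · exact ⟨⟨gg, gg_NU⟩, gg_norm3, pi_g F⟩
  have hall : ∀ y ∈ P1.map φ.toMonoidHom, y ∈ Subgroup.normalizer (S3 : Set G) := by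
    intro y hy
    obtain ⟨n, hn, e⟩ := hYN (hY ⟨⟨y, hy⟩, rfl⟩ : q ⟨y, hy⟩ ∈ _)
    have h1 : pi F (n⁻¹ * fX ⟨y, hy⟩) = 1 := by
      rw [map_mul, map_inv, e]
      exact inv_mul_cancel _
    have h2 := norm_Us_norm3 (K0_norm (mem_K0 F h1))
    have hn' : (n : G) ∈ Subgroup.normalizer (S3 : Set G) := hn
    have h3 : (n : G) * ((n⁻¹ * fX ⟨y, hy⟩ : ↥NU) : G) ∈ Subgroup.normalizer (S3 : Set G) :=
      Subgroup.mul_mem _ hn' h2
    rw [← Subgroup.coe_mul, mul_inv_cancel_left] at h3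
    exact h3
  apply a_not_norm3
  have := map_normalizer φ.symm (map_symm φ hS3) (hall _ ⟨ga, Subgroup.subset_closure (by simp), rfl⟩)
  simpa using this

theorem e_check : (chk ([(4, true)] ++ wW 2 ++ [(4, false)]) (pW (wW 3) 1 ++ pW (wW 4) 1 ++ pW (wW 5) 4 ++ pW (wW 0) 1) &&
    (chk ([(4, true)] ++ wW 3 ++ [(4, false)]) (pW (wW 3) 4 ++ pW (wW 4) 4 ++ pW (wW 5) 3) &&
    (chk ([(4, true)] ++ wW 4 ++ [(4, false)]) (pW (wW 5) 2) &&
    (chk ([(4, true)] ++ wW 5 ++ [(4, false)]) (pW (wW 4) 3) &&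
     chk ([(4, true)] ++ wW 0 ++ [(4, false)]) (pW (wW 2) 1 ++ pW (wW 3) 1 ++ pW (wW 4) 4 ++ pW (wW 5) 3))))) = true := by
  decide +kernel

theorem e_norm : el [(4, true)] ∈ Subgroup.normalizer (Rs : Set G) := by
  have := finite_Rs
  refine mem_normalizer_of_conj_mem fun k hk => ?_
  have h := e_check
  simp only [Bool.and_eq_true] at h
  obtain ⟨h2, h3, h4, h5, h0⟩ := h
  have m2 : w 2 ∈ Rs := S2_le_Rs w2_mem_S2
  have m3 : w 3 ∈ Rs := S2_le_Rs (S3_le_S2 w3_mem_S3)
  have m4 : w 4 ∈ Rs := S2_le_Rs (S3_le_S2 (S4_le_S3 w4_mem_S4))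
  have m5 : w 5 ∈ Rs := S2_le_Rs (S3_le_S2 (S4_le_S3 w5_mem_S4))
  have key : ∀ {i : Nat} {l : Wd}, chk ([(4, true)] ++ wW i ++ [(4, false)]) l = true → el l ∈ Rs →
      el [(4, true)] * w i * (el [(4, true)])⁻¹ ∈ Rs := fun {i l} hh hl => by
    rw [← el_inv [(4, true)], ← el_append, ← el_append]
    exact (el_eq hh : el ([(4, true)] ++ wW i ++ FreeGroup.invRev [(4, true)]) = el l) ▸ hl
  have hR : Rs ≤ Rs.comap (MulAut.conj (el [(4, true)])).toMonoidHom := by
    refine sup_le (sup_le (sup_le (sup_le (Subgroup.zpowers_le.2 (key h5 ?_))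
      (Subgroup.zpowers_le.2 (key h4 ?_))) (Subgroup.zpowers_le.2 (key h3 ?_)))
      (Subgroup.zpowers_le.2 (key h2 ?_))) (Subgroup.zpowers_le.2 (key h0 ?_))
    all_goals
      simp only [el_append, el_pW]
      repeat' first | exact b_mem_Rs | exact m2 | exact m3 | exact m4 | exact m5 | apply pow_mem | apply mul_mem
  exact hR hk

theorem Hs_le : Hs ≤ P1 ⊔ Subgroup.zpowers (el [(4, true)]) := by
  set S := P1 ⊔ Subgroup.zpowers (el [(4, true)])
  obtain ⟨-, -, -, p1, p2, p3, p4, p5, -⟩ := gen_facts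
  have hP : ∀ x ∈ P1, x ∈ S := fun x hx => (le_sup_left : P1 ≤ S) hx
  have ha : el [(0, true)] ∈ S := hP _ (Subgroup.subset_closure (by simp))
  have hb : el [(1, true)] ∈ S := hP _ (Subgroup.subset_closure (by simp))
  have hc : el [(2, true)] ∈ S := hP _ (Subgroup.subset_closure (by simp))
  have he : el [(4, true)] ∈ S :=
    (le_sup_right : Subgroup.zpowers (el [(4, true)]) ≤ S) (Subgroup.mem_zpowers _)
  have key : ∀ l : Wd, (∀ p ∈ l, p.1 ≠ 3) → el l ∈ S := by
    intro l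
    induction l with
    | nil => intro _; rw [el_nil]; exact one_mem _
    | cons p l ih =>
      intro h
      rw [show p :: l = [p] ++ l from rfl, el_append]
      refine mul_mem ?_ (ih fun q hq => h q (List.mem_cons_of_mem _ hq))
      obtain ⟨i, b⟩ := p
      have hi : el [(i, true)] ∈ S := by
        have h3 := h _ (List.mem_cons_self)
        fin_cases i <;> first
          | exact absurd rfl h3
          | exact ha | exact hb | exact hc | exact he
          | exact hP _ p1 | exact hP _ p2 | exact hP _ p3 | exact hP _ p4 | exact hP _ p5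
      cases b
      · exact (el_inv [(i, true)] ▸ inv_mem hi :)
      · exact hi
  have hd : el [(3, true)] ∈ S := by
    have e : el [(3, true)] = el [(0, true), (1, true), (1, true), (0, false), (1, false), (5, false),
        (8, false), (9, false), (0, true), (4, true), (0, true), (4, true), (0, true), (6, false),
        (1, true), (4, true)] := el_eq (by decide +kernel)
    rw [e]
    exact key _ (by decide +kernel)
  rw [Hs, lyH, MonoidHom.map_closure, Subgroup.closure_le]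
  rintro _ ⟨x, hx, rfl⟩
  rcases hx with rfl | rfl | rfl | rfl
  exacts [ha, hb, hc, hd]

include F in
/-- An automorphism keeping `U` keeps ⟨a, b, c, d⟩. -/
theorem map_Hs (φ : G ≃* G) (hU : Us.map φ.toMonoidHom = Us) : Hs.map φ.toMonoidHom = Hs := by
  have := F.finite
  refine Subgroup.eq_of_le_of_card_ge ?_ (le_of_eq
    (Nat.card_congr (Subgroup.equivMapOfInjective Hs φ.toMonoidHom φ.injective).toEquiv))
  refine (Subgroup.map_mono Hs_le).trans ?_
  rw [Subgroup.map_sup, map_P1 F φ hU, MonoidHom.map_zpowers]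
  exact sup_le P1_le_Hs (Subgroup.zpowers_le.2
    (norm_Rs_le F (map_normalizer φ (map_canon φ hU).2.2 e_norm)))

end Cfsg.Agent.LyOut
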