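import Cfsg.Agent.LyOut.Keep
import Cfsg.Agent.S2121
import Cfsg.Prelude.Def_KGroupFacts

/-!
# Every automorphism of the presented Lyons group is inner, given its order and suborbits
-/

set_option autoImplicit false
set_option maxRecDepth 100000
set_option maxHeartbeats 1000000

namespace Cfsg.Agent.LyOut

open Cfsg.Spor Cfsg.Agent.CosetCert Cfsg.Agent.LyMat Cfsg.Lie

variable (F : Facts)

theorem inner_Hs (α : ↥Hs ≃* ↥Hs) : ∃ h ∈ Hs, ∀ x : ↥Hs, (α x : G) = h * x * h⁻¹ := by
  obtain ⟨e⟩ := abcd_iso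
  have h5 : Fintype.card (ZMod 5) = 5 ^ 1 := by rw [ZMod.card, pow_one]
  have hc := Cfsg.Agent.S2121.result (F := ZMod 5) 5 1 h5 (by norm_num)
  rw [if_neg (by norm_num)] at hc
  have hs : Subsingleton (Cfsg.Out ↥(chevG2.group (ZMod 5))) := (Nat.card_eq_one_iff_unique.1 hc).1
  have hα : ((e.symm.trans α).trans e : MulAut ↥(chevG2.group (ZMod 5))) ∈
      Inn ↥(chevG2.group (ZMod 5)) := by
    rw [← QuotientGroup.eq_one_iff]
    exact Subsingleton.elim _ _
  obtain ⟨y, hy⟩ := hα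
  refine ⟨(e.symm y : ↥Hs), (e.symm y).2, fun x => ?_⟩
  have h1 : y * e x * y⁻¹ = e (α x) := by
    have h : MulAut.conj y (e x) = ((e.symm.trans α).trans e) (e x) := by rw [hy]
    rw [MulAut.conj_apply] at h
    exact h.trans (congrArg (fun z => e (α z)) (e.symm_apply_apply x))
  have h2 := congrArg (fun z : ↥(chevG2.group (ZMod 5)) => ((e.symm z : ↥Hs) : G)) h1
  simp only [map_mul, map_inv, MulEquiv.symm_apply_apply, Subgroup.coe_mul, Subgroup.coe_inv] at h2
  exact h2.symm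

/-- The letters a, b, c, d, e, c1, …, c5. -/
def isBase (g : Ly.Gen) : Bool := (List.finRange 10).any fun i => decide (LyChain1.ren i = g)

/-- A letter defined by a relator from the basic letters. -/
def defined (g : Ly.Gen) : Bool := decide (g = Ly.Gen.z) || (isBase g || Ly.extra.any fun r =>
  match r.toWord with
  | (g', true) :: rest => decide (g' = g) && rest.all fun p => isBase p.1
  | _ => false)

theorem defined_all (g : Ly.Gen) : defined g = true := by
  cases g <;> decide +kernel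

theorem eq_top {S : Subgroup G} (hH : Hs ≤ S) (hz : gz ∈ S) : S = ⊤ := by
  have hbase : ∀ g, isBase g = true → PresentedGroup.mk lyRels (FreeGroup.of g) ∈ S := by
    intro g hg
    obtain ⟨i, -, hi⟩ := List.any_eq_true.1 hg
    exact (of_decide_eq_true hi : LyChain1.ren i = g) ▸ hH (gen_mem i)
  have hword : ∀ L : List (Ly.Gen × Bool), (∀ p ∈ L, isBase p.1 = true) →
      PresentedGroup.mk lyRels (FreeGroup.mk L) ∈ S := by
    intro L
    induction L with
    | nil => intro _; rw [← FreeGroup.one_eq_mk, map_one]; exact one_mem _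
    | cons p L ih =>
      intro h
      rw [show p :: L = [p] ++ L from rfl, ← FreeGroup.mul_mk, map_mul]
      refine mul_mem ?_ (ih fun q hq => h q (List.mem_cons_of_mem _ hq))
      obtain ⟨g, b⟩ := p
      have hg := hbase g (h _ (List.mem_cons_self))
      cases b
      · rw [show FreeGroup.mk [(g, false)] = (FreeGroup.of g)⁻¹ from rfl, map_inv]
        exact inv_mem hg
      · exact hg
  have hall : ∀ g, PresentedGroup.mk lyRels (FreeGroup.of g) ∈ S := by
    intro g
    have h := defined_all g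
    rw [defined, Bool.or_eq_true, Bool.or_eq_true] at h
    rcases h with h | h | h
    · rw [(of_decide_eq_true h : g = Ly.Gen.z)]
      exact hz
    · exact hbase g h
    · obtain ⟨r, hr, h⟩ := List.any_eq_true.1 h
      split at h
      · rename_i g' rest he
        rw [Bool.and_eq_true] at h
        obtain ⟨hg, hrest⟩ := h
        have h1 : PresentedGroup.mk lyRels r = 1 := PresentedGroup.one_of_mem (Or.inr hr)
        rw [← FreeGroup.mk_toWord (x := r), he, show (g', true) :: rest = [(g', true)] ++ rest from rfl,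
          ← FreeGroup.mul_mk, map_mul] at h1
        rw [← of_decide_eq_true hg, show FreeGroup.of g' = FreeGroup.mk [(g', true)] from rfl,
          eq_inv_of_mul_eq_one_left h1]
        exact inv_mem (hword rest fun p hp => List.all_eq_true.1 hrest p hp)
      · simp at h
  rw [eq_top_iff]
  intro x hx
  obtain ⟨v, rfl⟩ := PresentedGroup.mk_surjective _ x
  clear hx
  induction v using FreeGroup.induction_on with
  | C1 => rw [map_one]; exact one_mem _
  | of g => exact hall g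
  | inv_of g h => rw [map_inv]; exact inv_mem h
  | mul a b ha hb => rw [map_mul]; exact mul_mem ha hb

theorem fixed_zero_one : ∀ i : Fin 6, α6 i = i → β6 i = i → δ6 i = i → i = 0 ∨ i = 1 := by
  decide +kernel

theorem eq_one_or_τ6 {x : Equiv.Perm (Fin 6)} (ha : Commute α6 x) (hb : Commute β6 x)
    (hd : Commute δ6 x) : x = 1 ∨ x = τ6 := by
  have e : ∀ {p : Equiv.Perm (Fin 6)}, Commute p x → ∀ i, p i = i → p (x i) = x i := fun {p} h i hi => by
    rw [← Equiv.Perm.mul_apply, h.eq, Equiv.Perm.mul_apply, hi]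
  have f : ∀ i, i = 0 ∨ i = 1 → x i = 0 ∨ x i = 1 := by
    rintro i (rfl | rfl) <;> exact fixed_zero_one _ (e ha _ (by decide +kernel))
      (e hb _ (by decide +kernel)) (e hd _ (by decide +kernel))
  rcases f 0 (Or.inl rfl) with h0 | h0 <;> rcases f 1 (Or.inr rfl) with h1 | h1
  · exact absurd (x.injective (h0.trans h1.symm)) (by decide)
  · left
    have hτ : τ6 * x = τ6 := eq_τ6
      (by rw [Equiv.Perm.mul_apply, h0]; rfl) (by rw [Equiv.Perm.mul_apply, h1]; rfl)
      (Commute.mul_right (by decide +kernel : α6 * τ6 = τ6 * α6) ha)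
      (Commute.mul_right (by decide +kernel : β6 * τ6 = τ6 * β6) hb)
      (Commute.mul_right (by decide +kernel : δ6 * τ6 = τ6 * δ6) hd)
    exact mul_left_cancel (hτ.trans (mul_one τ6).symm)
  · exact Or.inr (eq_τ6 h0 h1 ha hb hd)
  · exact absurd (x.injective (h0.trans h1.symm)) (by decide)

theorem mem_K0_decomp {k : G} (hk : k ∈ K0) : ∃ n : ℤ, ∃ u ∈ U1, k = (ga ^ 2) ^ n * u := by
  have hle : K0 ≤ Subgroup.zpowers (ga ^ 2) ⊔ U1 := by
    refine sup_le (sup_le le_sup_right (Subgroup.zpowers_le.2 ?_)) le_sup_left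
    rw [show ga ^ 4 = (ga ^ 2) ^ 2 by group]
    exact pow_mem ((le_sup_left : Subgroup.zpowers (ga ^ 2) ≤ _) (Subgroup.mem_zpowers _)) 2
  have hk' := hle hk
  rw [← SetLike.mem_coe, Subgroup.coe_mul_of_left_le_normalizer_right (Subgroup.zpowers (ga ^ 2)) U1
    (Subgroup.zpowers_le.2 (pow_mem ga_NU 2))] at hk'
  obtain ⟨x, hx, u, hu, e⟩ := hk'
  obtain ⟨n, rfl⟩ := hx
  exact ⟨n, u, hu, e.symm⟩

include F in
/-- An automorphism of ⟨a, b, c, d⟩ acting trivially there fixes `z`. -/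
theorem eq_one_of_centralize {g : G} (hU : ∀ k ∈ U1, Commute g k) (ha : Commute g ga)
    (h2 : Commute g (el a2W)) (h3 : Commute g (el a3W)) : g = 1 := by
  have := F.finite
  have hg : g ∈ NU := mem_normalizer_of_conj_mem (K := U1) fun k hk => by
    rw [(hU k hk).eq, mul_inv_cancel_right]
    exact hk
  set g' : ↥NU := ⟨g, hg⟩
  have hc : ∀ {y : ↥NU}, Commute g (y : G) → Commute (pi F y) (pi F g') := fun {y} h =>
    ((show Commute g' y from Subtype.ext h).symm.map (pi F))
  have hx := eq_one_or_τ6 (pi_a F ▸ hc (y := ⟨ga, ga_NU⟩) ha) (pi_a2 F ▸ hc (y := ⟨_, a2_NU⟩) h2)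
    (pi_a3 F ▸ hc (y := ⟨_, a3_NU⟩) h3)
  have hga : ga ^ 8 = 1 := a_pow_eight
  have hrev : ∀ n : ℤ, Commute ga ((ga ^ 2) ^ n) := fun n => ((Commute.refl ga).pow_right 2).zpow_right n
  rcases hx with hx | hx
  · obtain ⟨n, u, hu, e⟩ := mem_K0_decomp (mem_K0 F hx)
    change g = _ at e
    have hper : (ga ^ 2) ^ (4 : ℤ) = 1 := by
      rw [zpow_ofNat, ← pow_mul]; exact hga
    have hcases : (ga ^ 2) ^ n = 1 ∨ (ga ^ 2) ^ n = ga ^ 2 ∨ (ga ^ 2) ^ n = ga ^ 4 ∨
        (ga ^ 2) ^ n = ga ^ 6 := by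
      rw [← Int.emod_add_mul_ediv n 4, zpow_add, zpow_mul, hper, one_zpow, mul_one]
      have : n % 4 = 0 ∨ n % 4 = 1 ∨ n % 4 = 2 ∨ n % 4 = 3 := by omega
      rcases this with h | h | h | h <;> rw [h]
      · left; exact zpow_zero _
      · right; left; exact zpow_one _
      · right; right; left; rw [zpow_ofNat, ← pow_mul]
      · right; right; right; rw [zpow_ofNat, ← pow_mul]
    have hu5 : Commute u (w 5) := by
      have h5 : ∀ k ∈ U1, Commute (w 5) k := by
        refine forall_mem_sup (forall_mem_sup (forall_mem_sup (forall_mem_sup ?_ ?_) ?_) ?_) ?_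
        · exact commute_S5 (by norm_num) (by norm_num)
        all_goals exact commute_w (by norm_num) (by norm_num) (by norm_num) (by norm_num) rfl
      exact (h5 u hu).symm
    have m5 : w 5 ∈ U1 := S2_le_U1 (S3_le_S2 (S4_le_S3 w5_mem_S4))
    have hn5 : ∀ p : G, (ga ^ 2) ^ n = p → p * w 5 * p⁻¹ = w 5 := by
      intro p hp
      have h := (hU _ m5).eq
      rw [e, hp] at h
      calc p * w 5 * p⁻¹ = p * (u * w 5 * u⁻¹) * p⁻¹ := by rw [hu5.eq, mul_inv_cancel_right]
        _ = p * u * w 5 * (p * u)⁻¹ := by group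
        _ = w 5 := by rw [h, mul_inv_cancel_right]
    have e5 : w 5 ^ 4 ≠ w 5 := fun h => by
      have h3 : w 5 ^ 3 = 1 :=
        mul_left_cancel (a := w 5) ((pow_succ' _ 3).symm.trans (h.trans (mul_one _).symm))
      have h5 : orderOf (w 5) = 5 := orderOf_eq_prime (pow_five 5 (by norm_num)) w5_ne
      have h35 := orderOf_dvd_of_pow_eq_one h3
      rw [h5] at h35
      norm_num at h35
    have hchk : ∀ m, (chk (pL 0 m ++ wW 5 ++ FreeGroup.invRev (pL 0 m)) (pW (wW 5) 4) = true) →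
        ga ^ m * w 5 * (ga ^ m)⁻¹ = w 5 ^ 4 := fun m h => by
      simpa only [el_append, el_inv, el_pL, el_pW] using el_eq h
    rcases hcases with hp | hp | hp | hp
    · rw [hp, one_mul] at e
      subst e
      obtain ⟨j, hj⟩ := center_U1 hu hU
      have e5' : ga * w 5 * ga⁻¹ = w 5 ^ 3 := by
        have h : chk ([(0, true)] ++ wW 5 ++ [(0, false)]) (pW (wW 5) 3) = true := by decide +kernel
        have := el_eq h
        rw [el_append, el_append, el_pW, show el [((0 : Fin 10), false)] = ga⁻¹ from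
          el_inv [((0 : Fin 10), true)]] at this
        exact this
      have h1 : ga * g * ga⁻¹ = g := by rw [← ha.eq, mul_inv_cancel_right]
      rw [← hj, ← conj_zpow, e5', ← zpow_natCast, ← zpow_mul] at h1
      have h2' : w 5 ^ (2 * j) = 1 := by
        have : w 5 ^ (((3 : ℕ) : ℤ) * j - j) = 1 := by rw [zpow_sub, h1, mul_inv_cancel]
        rwa [show ((3 : ℕ) : ℤ) * j - j = 2 * j by omega] at this
      have h5z : w 5 ^ (5 : ℤ) = 1 := by rw [zpow_ofNat]; exact pow_five 5 (by norm_num)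
      rw [← hj]
      have : w 5 ^ j = (w 5 ^ (2 * j)) ^ (3 : ℤ) * ((w 5 ^ (5 : ℤ)) ^ j)⁻¹ := by
        rw [← zpow_mul, ← zpow_mul, ← zpow_neg, ← zpow_add]
        congr 1
        ring
      rw [h2', h5z, one_zpow, one_zpow, inv_one, mul_one] at this
      exact this
    · exact absurd ((hchk 2 (by decide +kernel)).symm.trans (hn5 _ hp)) e5
    · exfalso
      have h := (hU _ w1_mem_U1).eq
      rw [e, hp] at h
      have hu1 : u * w 1 * u⁻¹ * (w 1)⁻¹ ∈ S5 := by
        have h1 := inv_mem (conj_U1_mem hu)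
        rwa [show (w 1 * u * (w 1)⁻¹ * u⁻¹)⁻¹ = u * w 1 * u⁻¹ * (w 1)⁻¹ by group] at h1
      obtain ⟨i, hi⟩ := hu1
      have e1 : u * w 1 * u⁻¹ = w 5 ^ i * w 1 := by
        rw [show w 5 ^ i = u * w 1 * u⁻¹ * (w 1)⁻¹ from hi]; group
      have h4 : ga ^ 4 * w 5 * (ga ^ 4)⁻¹ = w 5 := by
        have hh : chk (pL 0 4 ++ wW 5 ++ FreeGroup.invRev (pL 0 4)) (wW 5) = true := by decide +kernel
        simpa only [el_append, el_inv, el_pL] using el_eq hh
      have h1' : ga ^ 4 * w 1 * (ga ^ 4)⁻¹ = w 1 ^ 4 := by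
        simpa only [el_append, el_inv, el_pL, el_pW] using el_eq a4_check
      have h' : w 1 = w 5 ^ i * w 1 ^ 4 := by
        calc w 1 = ga ^ 4 * u * w 1 * (ga ^ 4 * u)⁻¹ := by rw [h, mul_inv_cancel_right]
          _ = ga ^ 4 * (u * w 1 * u⁻¹) * (ga ^ 4)⁻¹ := by group
          _ = (ga ^ 4 * w 5 * (ga ^ 4)⁻¹) ^ i * (ga ^ 4 * w 1 * (ga ^ 4)⁻¹) := by
            rw [e1, conj_zpow]; group
          _ = w 5 ^ i * w 1 ^ 4 := by rw [h4, h1']
      have hS : w 1 ^ 3 ∈ S2 := by
        have : w 1 ^ 3 = (w 5 ^ i)⁻¹ := by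
          calc w 1 ^ 3 = w 1 ^ 4 * (w 1)⁻¹ := by group
            _ = w 1 ^ 4 * (w 5 ^ i * w 1 ^ 4)⁻¹ := congrArg (fun y => w 1 ^ 4 * y⁻¹) h'
            _ = _ := by group
        rw [this]
        exact inv_mem (zpow_mem (S3_le_S2 (S4_le_S3 w5_mem_S4)) i)
      apply w1_not_mem
      rw [show w 1 = (w 1 ^ 3) ^ 2 * (w 1 ^ 5)⁻¹ by group, pow_five 1 (by norm_num), inv_one, mul_one]
      exact pow_mem hS 2
    · exact absurd ((hchk 6 (by decide +kernel)).symm.trans (hn5 _ hp)) e5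
  · exfalso
    set k' : ↥NU := (⟨gz, gz_NU⟩ : ↥NU)⁻¹ * g' with hk'
    have hk1 : pi F k' = 1 := by
      rw [hk', map_mul, map_inv, pi_z, hx, inv_mul_cancel]
    obtain ⟨n, u, hu, e⟩ := mem_K0_decomp (mem_K0 F hk1)
    change gz⁻¹ * g = _ at e
    have hz : gz⁻¹ * ga⁻¹ * gz = ga ^ 3 := by
      have hh := congrArg (·⁻¹) z_a
      rw [show el [((0 : Fin 10), false), (0, false), (0, false)] = (el (pL 0 3))⁻¹ from
        el_inv (pL 0 3), inv_inv, el_pL] at hh
      rw [← hh]; group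
    have hkk : gz⁻¹ * g = ga ^ 4 * (ga⁻¹ * (gz⁻¹ * g) * ga) := by
      calc gz⁻¹ * g = gz⁻¹ * (ga⁻¹ * g * ga) := by rw [mul_assoc ga⁻¹, ha.eq, inv_mul_cancel_left]
        _ = (gz⁻¹ * ga⁻¹ * gz) * (gz⁻¹ * g * ga) := by group
        _ = ga ^ 4 * (ga⁻¹ * (gz⁻¹ * g) * ga) := by rw [hz]; group
    have hcj : ga⁻¹ * ((ga ^ 2) ^ n * u) * ga = (ga ^ 2) ^ n * (ga⁻¹ * u * ga) := by
      rw [← mul_assoc ga⁻¹, show ga⁻¹ * (ga ^ 2) ^ n = (ga ^ 2) ^ n * ga⁻¹ from (hrev n).inv_left.eq]
      group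
    rw [e, hcj, ← mul_assoc, show ga ^ 4 * (ga ^ 2) ^ n = (ga ^ 2) ^ n * ga ^ 4 from
      ((((Commute.refl ga).pow_right 2).zpow_right n).pow_left 4).eq, mul_assoc,
      mul_left_cancel_iff] at hkk
    have hv : ga⁻¹ * u * ga ∈ U1 := by
      simpa using (Subgroup.mem_normalizer_iff.1 (inv_mem ga_NU) u).1 hu
    have h4 : ga ^ 4 ∈ U1 := by
      rw [eq_mul_inv_of_mul_eq hkk.symm]
      exact mul_mem hu (inv_mem hv)
    have h1 : orderOf (ga ^ 4) ∣ 3125 := card_U1 ▸ Subgroup.orderOf_dvd_natCard U1 h4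
    have h2' : orderOf (ga ^ 4) ∣ 2 := orderOf_dvd_of_pow_eq_one (by rw [← pow_mul]; exact a_pow_eight)
    have h12 := Nat.dvd_gcd h1 h2'
    norm_num at h12
    exact a4_ne h12

include F in
theorem exists_conj_Us (φ : G ≃* G) :
    ∃ g : G, Us.map (φ.trans (MulAut.conj g)).toMonoidHom = Us := by
  have := F.finite
  have hc : Nat.card G = 5859000000 * Hs.index := by rw [← card_Hs, Hs.card_mul_index]
  rw [F.index_eq] at hc
  have hf : (Nat.card G).factorization 5 = 6 := by
    rw [hc, show 5859000000 * 8835156 = 5 ^ 6 * (374976 * 8835156) by norm_num,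
      Nat.factorization_mul (by norm_num) (by norm_num), Nat.Prime.factorization_pow (by norm_num)]
    rw [Finsupp.add_apply, Finsupp.single_eq_same,
      Nat.factorization_eq_zero_of_not_dvd (by norm_num), add_zero]
  let P : Sylow 5 G := Sylow.ofCard Us (by rw [hf, card_Us]; norm_num)
  let P' : Sylow 5 G := Sylow.ofCard (Us.map φ.toMonoidHom) (by
    rw [hf, ← Nat.card_congr (Subgroup.equivMapOfInjective Us φ.toMonoidHom φ.injective).toEquiv,
      card_Us]; norm_num)
  obtain ⟨g, hg⟩ := MulAction.exists_smul_eq G P' P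
  refine ⟨g, ?_⟩
  rw [show (φ.trans (MulAut.conj g)).toMonoidHom = (MulAut.conj g).toMonoidHom.comp φ.toMonoidHom from rfl,
    ← Subgroup.map_map]
  have e := congrArg (fun S : Sylow 5 G => (S : Subgroup G)) hg
  exact e

include F in
/-- An automorphism fixing ⟨a, b, c, d⟩ pointwise is trivial. -/
theorem eq_refl_of_fix (φ : G ≃* G) (h : ∀ x ∈ Hs, φ x = x) : ∀ x, φ x = x := by
  have hz : φ gz * gz⁻¹ = 1 := by
    have key : ∀ x, x ∈ Hs → gz⁻¹ * x * gz ∈ Hs → Commute (φ gz * gz⁻¹) x := by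
      intro x hx hx'
      have e := h _ hx'
      rw [map_mul, map_mul, map_inv, h x hx] at e
      show φ gz * gz⁻¹ * x = x * (φ gz * gz⁻¹)
      calc φ gz * gz⁻¹ * x = φ gz * (gz⁻¹ * x * gz) * gz⁻¹ := by group
        _ = φ gz * ((φ gz)⁻¹ * x * φ gz) * gz⁻¹ := by rw [e]
        _ = _ := by group
    exact eq_one_of_centralize F
      (fun k hk => key k (U1_le_Hs hk) (U1_le_Hs (z_conj_U1 hk)))
      (key _ (el_mem _) (z_a ▸ el_mem _)) (key _ (el_mem _) (z_a2 ▸ el_mem _))
      (key _ (el_mem _) (z_a3 ▸ el_mem _))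
  have hS : φ.toMonoidHom.eqLocus (MonoidHom.id G) = ⊤ :=
    eq_top (fun x hx => h x hx) (show φ gz = gz from mul_inv_eq_one.1 hz)
  exact fun x => (show x ∈ φ.toMonoidHom.eqLocus (MonoidHom.id G) from hS.symm ▸ Subgroup.mem_top x)

include F in
/-- Every automorphism is inner. -/
theorem mem_inn (φ : MulAut G) : φ ∈ Inn G := by
  have := F.finite
  obtain ⟨g, hg⟩ := exists_conj_Us F φ
  set ψ : G ≃* G := φ.trans (MulAut.conj g) with hψ
  have hH := map_Hs F ψ hg
  let α : ↥Hs ≃* ↥Hs := (ψ.subgroupMap Hs).trans (MulEquiv.subgroupCongr hH)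
  obtain ⟨k, hk, hα⟩ := inner_Hs α
  have hfix : ∀ x ∈ Hs, (ψ.trans (MulAut.conj k⁻¹)) x = x := by
    intro x hx
    have e : ψ x = k * x * k⁻¹ := hα ⟨x, hx⟩
    show MulAut.conj k⁻¹ (ψ x) = x
    rw [e, MulAut.conj_apply]
    group
  have hall := eq_refl_of_fix F _ hfix
  refine ⟨g⁻¹ * k, MulEquiv.ext fun x => ?_⟩
  have e : MulAut.conj k⁻¹ (MulAut.conj g (φ x)) = x := hall x
  simp only [MulAut.conj_apply, inv_inv] at e ⊢
  calc g⁻¹ * k * x * (g⁻¹ * k)⁻¹ = g⁻¹ * k * (k⁻¹ * (g * φ x * g⁻¹) * k) * (g⁻¹ * k)⁻¹ := by rw [e]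
    _ = φ x := by group

include F in
/-- The outer automorphism group is trivial. -/
theorem card_out : Nat.card (Cfsg.Out G) = 1 := by
  have : Subsingleton (Cfsg.Out G) := ⟨fun x y => by
    induction x using QuotientGroup.induction_on with
    | _ a =>
      induction y using QuotientGroup.induction_on with
      | _ b => exact QuotientGroup.eq.2 (mem_inn F _)⟩
  exact Nat.card_unique

end Cfsg.Agent.LyOut
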