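import Cfsg.Agent.LyOut.OfOrbits
import Cfsg.Agent.DCoset.Ly.Simple
import Cfsg.Agent.DCoset.Orbits

/-!
# The assumed facts from a double-coset certificate of the Lyons group
-/

set_option autoImplicit false
set_option maxRecDepth 100000
set_option maxHeartbeats 1000000

namespace Cfsg.Agent.LyOut

open Cfsg.Agent.DCoset Cfsg.Agent.LyMat

theorem iota_injective : Function.Injective Ly.iota := by
  have := Ly.q_finite
  have hr : Nat.card ↥Ly.iota.range = 5859000000 := by rw [Ly.iota_range]; exact Ly.card_lyH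
  have hb : Function.Bijective Ly.iota.rangeRestrict :=
    Ly.iota.rangeRestrict_surjective.bijective_of_nat_card_le (by rw [hr]; exact LyMat.q_card.2)
  exact fun x y e => hb.1 (Subtype.ext e)

/-- The facts from a certificate with the exact index. -/
theorem facts_of_cert (D : Steps) (C : Cover)
    (hsteps : ∀ s, s < D.len → Steps.check D Ly.rules Ly.tab s = true)
    (hsrc : ∀ j, 1 ≤ j → j < D.nNode → D.nodeSrc j < j)
    (hV : C.Valid D Ly.rules Ly.tab 5859000000)
    (hsum : ((List.range C.nLive).map C.idx).sum = 8835156)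
    (hfin : Finite G) (hs : IsSimpleGroup G) (hidx : Hs.index = 8835156)
    (m1 : Fin C.nLive) (h1 : C.idx m1 = 19530)
    (hm : ∀ m : Fin C.nLive, m.1 ≠ 0 → m = m1 ∨ (25 ∣ C.idx m ∧ 19530 < C.idx m)) : Facts := by
  have := Ly.q_finite
  have hF : ∀ s, s < D.len → D.Holds Ly.rules (Ly.model.toModel Ly.iota) Ly.iota.range Ly.tEl s :=
    Steps.holds Ly.sound (fun g _ => (⟨Ly.qL g, rfl⟩ : Ly.iota (Ly.qL g) ∈ Ly.iota.range)) hsrc
      (show 0 < 3 by norm_num) hsteps
  have htot : ((List.range C.nLive).map C.idx).sum ≤ Ly.iota.range.index := by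
    rw [hsum, Ly.iota_range, hidx]
  obtain ⟨pt, label, -, hl, -, hc, h0⟩ := Cover.suborbits (P := Ly.model) Ly.iota Ly.tEl LyMat.q_card.2
    Ly.model_gens Ly.range_gen Ly.sound hV hF htot
  exact facts_of_orbits hs hidx Ly.iota Ly.iota_range iota_injective (fun m => C.idx m.1)
    ⟨0, hV.live_zero.1⟩ m1 (fun m h => hm m fun e => h (Fin.ext e)) h1 pt label (h0 _ rfl) hl hc

end Cfsg.Agent.LyOut
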