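import Cfsg.Agent.LyOut.Main

/-!
# The assumed facts from the suborbits of a double-coset cover
-/

set_option autoImplicit false
set_option maxRecDepth 100000
set_option maxHeartbeats 1000000

namespace Cfsg.Agent.LyOut

open Cfsg.Spor Cfsg.Agent.LyMat

theorem card_stab {Q : Type} [Group Q] {ι : Q →* G} (hi : Function.Injective ι) (q : Q)
    (p : G ⧸ ι.range) :
    Nat.card ↥(ι.range ⊓ MulAction.stabilizer G (ι q • p)) =
      Nat.card ↥((MulAction.stabilizer G p).comap ι) := by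
  rw [← Subgroup.map_comap_eq,
    ← Nat.card_congr (Subgroup.equivMapOfInjective _ _ hi).toEquiv]
  refine Nat.card_congr ((MulAut.conj q⁻¹).toEquiv.subtypeEquiv fun x => ?_)
  rw [Subgroup.mem_comap, Subgroup.mem_comap, MulAction.mem_stabilizer_iff, MulAction.mem_stabilizer_iff]
  show ι x • ι q • p = ι q • p ↔ ι (q⁻¹ * x * q⁻¹⁻¹) • p = p
  rw [inv_inv, map_mul, map_mul, map_inv, mul_smul, mul_smul, inv_smul_eq_iff]

theorem five_pow_dvd {a c : ℕ} (h : a * c = 5859000000) (ha : 3125 ∣ a) : ¬ 25 ∣ c := by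
  rintro ⟨d, rfl⟩
  obtain ⟨b, rfl⟩ := ha
  have h' : 78125 * (b * d) = 5859000000 := by rw [← h]; ring
  omega

/-- The assumed facts from the orbits of ⟨a, b, c, d⟩ on its cosets. -/
theorem facts_of_orbits [Finite G] (hs : IsSimpleGroup G) (hidx : Hs.index = 8835156)
    {Q : Type} [Group Q] (ι : Q →* G) (hr : ι.range = Hs) (hi : Function.Injective ι)
    {n : ℕ} (idx : Fin n → ℕ) (m0 m1 : Fin n)
    (hm : ∀ m, m ≠ m0 → m = m1 ∨ (25 ∣ idx m ∧ 19530 < idx m)) (h1 : idx m1 = 19530)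
    (pt : Fin n → G ⧸ ι.range) (label : G ⧸ ι.range → Fin n) (h0 : pt m0 = QuotientGroup.mk 1)
    (hl : ∀ y, ∃ q : Q, y = ι q • pt (label y))
    (hc : ∀ m, Nat.card ↥((MulAction.stabilizer G (pt m)).comap ι) * idx m = Nat.card Q) :
    Facts := by
  have hQ : Nat.card Q = 5859000000 := by
    rw [← card_Hs, ← hr, ← Nat.card_congr (MonoidHom.ofInjective hi).toEquiv]
  have hz : gz ∉ Hs := fun h => by
    rw [eq_top le_rfl h, Subgroup.index_top] at hidx
    norm_num at hidx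
  have hzW : 300000 ≤ Nat.card ↥Kz := by
    have h : Nat.card ↥P1 ≤ Nat.card (Fin 5 × ↥Kz) := by
      have hc : ∀ x : ↥P1, ∃ p : Fin 5 × ↥Kz, (x : G) = gb ^ p.1.val * p.2 := fun x => by
        obtain ⟨k, hk, y, hy, e⟩ := P1_cover x.2
        exact ⟨(⟨k, hk⟩, ⟨y, hy⟩), e⟩
      choose f hf using hc
      exact Nat.card_le_card_of_injective f fun x y e => Subtype.ext (by rw [hf x, hf y, e])
    rw [card_P1, Nat.card_prod, Nat.card_fin] at h
    omega
  have hmono : 300000 ≤ Nat.card ↥Wz := hzW.trans (Subgroup.card_le_of_le Kz_le_Wz)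
  -- move to the range of `ι`
  revert hmono
  unfold Wz zb
  intro hmono
  have main : ∀ (K : Subgroup G) (_ : K = ι.range) (pt : Fin n → G ⧸ K) (label : G ⧸ K → Fin n),
      pt m0 = QuotientGroup.mk 1 → (∀ y, ∃ q : Q, y = ι q • pt (label y)) →
      (∀ m q, Nat.card ↥(K ⊓ MulAction.stabilizer G (ι q • pt m)) * idx m = 5859000000) →
      gz ∉ K → 300000 ≤ Nat.card ↥(K ⊓ MulAction.stabilizer G (QuotientGroup.mk gz : G ⧸ K)) →
      (∀ y : G ⧸ K, y = QuotientGroup.mk 1 ∨ (∃ h ∈ K, y = h • (QuotientGroup.mk gz : G ⧸ K)) ∨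
        ¬ 3125 ∣ Nat.card ↥(K ⊓ MulAction.stabilizer G y)) ∧
      Nat.card ↥(K ⊓ MulAction.stabilizer G (QuotientGroup.mk gz : G ⧸ K)) = 300000 := by
    intro K hK pt label h0 hl hc hzK hW
    have hmem : ∀ q, ι q ∈ K := fun q => hK ▸ ⟨q, rfl⟩
    have hbase : ∀ q, ι q • (QuotientGroup.mk 1 : G ⧸ K) = QuotientGroup.mk 1 := fun q => by
      show (QuotientGroup.mk (ι q * 1) : G ⧸ K) = QuotientGroup.mk 1
      rw [QuotientGroup.eq, mul_one, mul_one]
      exact inv_mem (hmem q)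
    obtain ⟨qz, hqz⟩ := hl (QuotientGroup.mk gz)
    have hcz := hc (label (QuotientGroup.mk gz)) qz
    rw [← hqz] at hcz
    have hmz : label (QuotientGroup.mk gz : G ⧸ K) = m1 := by
      by_contra hne
      by_cases h : label (QuotientGroup.mk gz : G ⧸ K) = m0
      · rw [h, h0, hbase, QuotientGroup.eq, mul_one, inv_mem_iff] at hqz
        exact hzK hqz
      · obtain ⟨-, hlt⟩ := (hm _ h).resolve_left hne
        have := Nat.mul_le_mul hW (show 19531 ≤ idx (label (QuotientGroup.mk gz : G ⧸ K)) by omega)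
        omega
    rw [hmz, h1] at hcz
    refine ⟨fun y => ?_, by omega⟩
    obtain ⟨q, hq⟩ := hl y
    by_cases h : label y = m0
    · left; rw [hq, h, h0, hbase]
    · rcases hm _ h with h' | ⟨h25, -⟩
      · refine Or.inr (Or.inl ⟨ι q * (ι qz)⁻¹, mul_mem (hmem q) (inv_mem (hmem qz)), ?_⟩)
        rw [hq, h', hqz, hmz, mul_smul, inv_smul_smul]
      · refine Or.inr (Or.inr fun hd => ?_)
        have h' := hc (label y) q
        rw [← hq] at h'
        exact five_pow_dvd h' hd h25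
  obtain ⟨hsub, hW⟩ := (show ∀ (K : Subgroup G) (_ : K = Hs) (_ : K = ι.range),
      300000 ≤ Nat.card ↥(Hs ⊓ MulAction.stabilizer G (QuotientGroup.mk gz : G ⧸ Hs)) →
      ((∀ y : G ⧸ Hs, y = QuotientGroup.mk 1 ∨ (∃ h ∈ Hs, y = h • (QuotientGroup.mk gz : G ⧸ Hs)) ∨
        ¬ 3125 ∣ Nat.card ↥(Hs ⊓ MulAction.stabilizer G y)) ∧
      Nat.card ↥(Hs ⊓ MulAction.stabilizer G (QuotientGroup.mk gz : G ⧸ Hs)) = 300000) from by
    intro K hKH hK hW
    have key := main ι.range rfl pt label h0 hl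
      (fun m q => by rw [card_stab hi, hc m, hQ]) (hr.symm ▸ hz)
    revert key
    revert hW
    clear main hl hc h0 pt label
    rw [← hr]
    exact fun hW key => key hW) ι.range hr rfl hmono
  exact ⟨inferInstance, hs, hidx, hsub, hW⟩

end Cfsg.Agent.LyOut
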