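import Cfsg.Agent.LyOut.Words

/-!
# The Sylow 5-subgroup `U = ⟨b, c1, …, c5⟩`: words and their relations
-/

set_option autoImplicit false
set_option maxRecDepth 100000
set_option maxHeartbeats 1000000

namespace Cfsg.Agent.LyOut

/-- A power of a letter. -/
def pL (i : Fin 10) (n : Nat) : Wd := List.replicate n (i, true)

/-- A power of a word. -/
def pW (l : Wd) (n : Nat) : Wd := (List.replicate n l).flatten

theorem el_pW (l : Wd) : ∀ n, el (pW l n) = el l ^ n
  | 0 => by simp [pW, el_nil]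
  | n + 1 => by
    rw [pW, List.replicate_succ, List.flatten_cons, el_append, ← pW, el_pW l n, pow_succ']

/-- The words of `w1, w2, w3, w4, w5 = c5, b`: a series of `U`. -/
def wW : Nat → Wd
  | 1 => [(6, true)]
  | 2 => pL 5 4 ++ pL 7 1 ++ pL 8 3 ++ pL 9 1
  | 3 => pL 5 1 ++ pL 7 1 ++ pL 8 3 ++ pL 9 1
  | 4 => pL 5 4 ++ pL 7 3 ++ pL 8 3 ++ pL 9 2
  | 5 => [(9, true)]
  | _ => [(1, true)]

/-- The elements of the series. -/
abbrev w (i : Nat) : G := el (wW i)

/-- `b`. -/
abbrev gb : G := w 0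

/-- `a`. -/
abbrev ga : G := el [(0, true)]

/-- `c1, …, c5`. -/
abbrev gc (i : Fin 5) : G := el [(⟨i.val + 5, by omega⟩, true)]

/-- The central subgroup. -/
abbrev S5 : Subgroup G := Subgroup.zpowers (w 5)
/-- The fourth term of the central series. -/
abbrev S4 : Subgroup G := S5 ⊔ Subgroup.zpowers (w 4)
/-- The third term of the central series. -/
abbrev S3 : Subgroup G := S4 ⊔ Subgroup.zpowers (w 3)
/-- The derived group of `U`. -/
abbrev S2 : Subgroup G := S3 ⊔ Subgroup.zpowers (w 2)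
/-- The extraspecial subgroup. -/
abbrev U1 : Subgroup G := S2 ⊔ Subgroup.zpowers (w 1)
/-- The other invariant maximal subgroup. -/
abbrev Rs : Subgroup G := S2 ⊔ Subgroup.zpowers (w 0)
/-- The Sylow 5-subgroup. -/
abbrev Us : Subgroup G := U1 ⊔ Subgroup.zpowers (w 0)

/-- Exponents of `w i * w j = w j * w i * c5 ^ k`. -/
def ex : Nat → Nat → Nat
  | 1, 3 => 3
  | 1, 4 => 3
  | 2, 3 => 2
  | 3, 1 => 2
  | 4, 1 => 2
  | 3, 2 => 3
  | _, _ => 0

theorem pow_five_check : ((List.range 6).all fun i => chk (pW (wW i) 5) []) = true := by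
  decide +kernel

theorem pow_five (i : Nat) (h : i < 6) : w i ^ 5 = 1 := by
  rw [w, ← el_pW, el_eq (List.all_eq_true.1 pow_five_check i (List.mem_range.2 h)), el_nil]

theorem comm_check : ((List.range 6).all fun i => (List.range 6).all fun j =>
    Nat.beq i 0 || (Nat.beq j 0 || chk (wW i ++ wW j) (wW j ++ wW i ++ pW (wW 5) (ex i j)))) =
    true := by
  decide +kernel

theorem comm_w {i j : Nat} (hi : i < 6) (hj : j < 6) (hi0 : 0 < i) (hj0 : 0 < j) :
    w i * w j = w j * w i * w 5 ^ ex i j := by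
  have h := List.all_eq_true.1 (List.all_eq_true.1 comm_check i (List.mem_range.2 hi)) j
    (List.mem_range.2 hj)
  simp only [Bool.or_eq_true] at h
  rcases h with h | h | h
  · exact absurd (Nat.eq_of_beq_eq_true h) (by omega)
  · exact absurd (Nat.eq_of_beq_eq_true h) (by omega)
  · have := el_eq h
    simpa only [el_append, el_pW] using this

theorem commute_w {i j : Nat} (hi : i < 6) (hj : j < 6) (hi0 : 0 < i) (hj0 : 0 < j)
    (h : ex i j = 0) : Commute (w i) (w j) := by
  have := comm_w hi hj hi0 hj0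
  rwa [h, pow_zero, mul_one] at this

theorem b_check : (chk (wW 1 ++ wW 0) (wW 0 ++ wW 1 ++ wW 2) && (chk (wW 2 ++ wW 0) (wW 0 ++ wW 2 ++ wW 3) &&
    (chk (wW 3 ++ wW 0) (wW 0 ++ wW 3 ++ wW 4) && (chk (wW 4 ++ wW 0) (wW 0 ++ wW 4) &&
      chk (wW 5 ++ wW 0) (wW 0 ++ wW 5))))) = true := by
  decide +kernel

theorem b_rels : w 1 * gb = gb * w 1 * w 2 ∧ w 2 * gb = gb * w 2 * w 3 ∧
    w 3 * gb = gb * w 3 * w 4 ∧ Commute (w 4) gb ∧ Commute (w 5) gb := by
  have h := b_check
  simp only [Bool.and_eq_true] at h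
  obtain ⟨h1, h2, h3, h4, h5⟩ := h
  refine ⟨?_, ?_, ?_, ?_, ?_⟩
  · simpa only [el_append] using el_eq h1
  · simpa only [el_append] using el_eq h2
  · simpa only [el_append] using el_eq h3
  · simpa only [el_append, Commute, SemiconjBy] using el_eq h4
  · simpa only [el_append, Commute, SemiconjBy] using el_eq h5

theorem w5_ne : w 5 ≠ 1 := el_c5_ne

theorem not_commute_w {i j : Nat} (hi : i < 6) (hj : j < 6) (hi0 : 0 < i) (hj0 : 0 < j)
    (h : ¬ 5 ∣ ex i j) : ¬ Commute (w i) (w j) := fun hc => by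
  have e := comm_w hi hj hi0 hj0
  rw [hc.eq, left_eq_mul] at e
  have : Fact (Nat.Prime 5) := ⟨by norm_num⟩
  have ho : orderOf (w 5) = 5 := orderOf_eq_prime (pow_five 5 (by norm_num)) w5_ne
  exact h (ho ▸ orderOf_dvd_of_pow_eq_one e)

end Cfsg.Agent.LyOut
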