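import Cfsg.Agent.LyOut.PDefs
import Cfsg.Agent.LyOut.Adjoin

/-!
# The structure of the Sylow 5-subgroup of ⟨a, b, c, d⟩
-/

set_option autoImplicit false
set_option maxRecDepth 100000
set_option maxHeartbeats 1000000

namespace Cfsg.Agent.LyOut

instance : Fact (Nat.Prime 5) := ⟨by norm_num⟩

theorem finite_S5 : Finite ↥S5 := by
  have : IsOfFinOrder (w 5) := isOfFinOrder_iff_pow_eq_one.2 ⟨5, by norm_num, pow_five 5 (by norm_num)⟩
  exact this.finite_zpowers.to_subtype

theorem norm_sup {K : Subgroup G} {x y : G} (hx : x ∈ Subgroup.normalizer (K : Set G))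
    [Finite ↥(K ⊔ Subgroup.zpowers y)] (h : x * y * x⁻¹ ∈ K ⊔ Subgroup.zpowers y) :
    x ∈ Subgroup.normalizer ((K ⊔ Subgroup.zpowers y : Subgroup G) : Set G) := by
  refine mem_normalizer_of_conj_mem fun k hk => ?_
  have : K ⊔ Subgroup.zpowers y ≤ (K ⊔ Subgroup.zpowers y).comap (MulAut.conj x).toMonoidHom := by
    refine sup_le (fun z hz => ?_) (Subgroup.zpowers_le.2 h)
    exact (le_sup_left : K ≤ _) ((Subgroup.mem_normalizer_iff.1 hx z).1 hz)
  exact this hk

theorem conj_w {i j : Nat} (hi : i < 6) (hj : j < 6) (hi0 : 0 < i) (hj0 : 0 < j) :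
    w i * w j * (w i)⁻¹ = w j * w 5 ^ ex i j := by
  have h5 : Commute (w i) (w 5 ^ ex i j) :=
    (commute_w hi (by norm_num) hi0 (by norm_num) (by
      rcases i with _ | _ | _ | _ | _ | i <;> rfl)).pow_right _
  rw [comm_w hi hj hi0 hj0, mul_inv_eq_iff_eq_mul]
  simp only [mul_assoc, h5.eq]

theorem conj_b : gb⁻¹ * w 1 * gb⁻¹⁻¹ = w 1 * w 2 ∧ gb⁻¹ * w 2 * gb⁻¹⁻¹ = w 2 * w 3 ∧
    gb⁻¹ * w 3 * gb⁻¹⁻¹ = w 3 * w 4 ∧ gb⁻¹ * w 4 * gb⁻¹⁻¹ = w 4 ∧ gb⁻¹ * w 5 * gb⁻¹⁻¹ = w 5 := by
  obtain ⟨h1, h2, h3, h4, h5⟩ := b_rels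
  refine ⟨?_, ?_, ?_, ?_, ?_⟩ <;> rw [inv_inv, mul_assoc]
  · rw [h1]; group
  · rw [h2]; group
  · rw [h3]; group
  · rw [h4.eq]; group
  · rw [h5.eq]; group

theorem mem_S5 : w 5 ∈ S5 := Subgroup.mem_zpowers _
theorem w5_mem_S4 : w 5 ∈ S4 := (le_sup_left : S5 ≤ S4) mem_S5
theorem w4_mem_S4 : w 4 ∈ S4 := (le_sup_right : Subgroup.zpowers (w 4) ≤ S4) (Subgroup.mem_zpowers _)
theorem S4_le_S3 : S4 ≤ S3 := le_sup_left
theorem S3_le_S2 : S3 ≤ S2 := le_sup_left
theorem S2_le_U1 : S2 ≤ U1 := le_sup_left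
theorem U1_le_Us : U1 ≤ Us := le_sup_left
theorem S2_le_Rs : S2 ≤ Rs := le_sup_left
theorem w3_mem_S3 : w 3 ∈ S3 := (le_sup_right : Subgroup.zpowers (w 3) ≤ S3) (Subgroup.mem_zpowers _)
theorem w2_mem_S2 : w 2 ∈ S2 := (le_sup_right : Subgroup.zpowers (w 2) ≤ S2) (Subgroup.mem_zpowers _)
theorem w1_mem_U1 : w 1 ∈ U1 := (le_sup_right : Subgroup.zpowers (w 1) ≤ U1) (Subgroup.mem_zpowers _)
theorem b_mem_Rs : gb ∈ Rs := (le_sup_right : Subgroup.zpowers (w 0) ≤ Rs) (Subgroup.mem_zpowers _)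
theorem b_mem_Us : gb ∈ Us := (le_sup_right : Subgroup.zpowers (w 0) ≤ Us) (Subgroup.mem_zpowers _)

theorem w5_pow_mem (n : Nat) : w 5 ^ n ∈ S5 := pow_mem mem_S5 n

/-- The conjugate of a series element by `w i`. -/
theorem conj_mem {K : Subgroup G} (h5 : S5 ≤ K) {i j : Nat} (hi : i < 6) (hj : j < 6)
    (hi0 : 0 < i) (hj0 : 0 < j) (h : w j ∈ K) : w i * w j * (w i)⁻¹ ∈ K := by
  rw [conj_w hi hj hi0 hj0]
  exact mul_mem h (h5 (w5_pow_mem _))

theorem norm5 {i : Nat} (hi : i < 6) (hi0 : 0 < i) : w i ∈ Subgroup.normalizer (S5 : Set G) := by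
  have := finite_S5
  refine mem_normalizer_of_conj_mem fun k hk => ?_
  rw [S5, Subgroup.zpowers_eq_closure] at hk
  refine closure_conj_le (N := S5) ?_ hk
  rintro s rfl
  exact conj_mem le_rfl hi (by norm_num) hi0 (by norm_num) mem_S5

theorem b_inv_norm5 : gb⁻¹ ∈ Subgroup.normalizer (S5 : Set G) := by
  have := finite_S5
  refine mem_normalizer_of_conj_mem fun k hk => ?_
  rw [S5, Subgroup.zpowers_eq_closure] at hk
  refine closure_conj_le (N := S5) ?_ hk
  rintro s rfl
  rw [conj_b.2.2.2.2]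
  exact mem_S5

theorem finite_S4 : Finite ↥S4 := by
  have := finite_S5
  exact finite_adjoin (p := 5) (by norm_num) (norm5 (by norm_num) (by norm_num))
    (by rw [pow_five 4 (by norm_num)]; exact one_mem _)

theorem norm4 {i : Nat} (hi : i < 6) (hi0 : 0 < i) : w i ∈ Subgroup.normalizer (S4 : Set G) := by
  have := finite_S4
  exact norm_sup (norm5 hi hi0) (conj_mem le_sup_left hi (by norm_num) hi0 (by norm_num) w4_mem_S4)

theorem b_inv_norm4 : gb⁻¹ ∈ Subgroup.normalizer (S4 : Set G) := by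
  have := finite_S4
  exact norm_sup b_inv_norm5 (by rw [conj_b.2.2.2.1]; exact w4_mem_S4)

theorem finite_S3 : Finite ↥S3 := by
  have := finite_S4
  exact finite_adjoin (p := 5) (by norm_num) (norm4 (by norm_num) (by norm_num))
    (by rw [pow_five 3 (by norm_num)]; exact one_mem _)

theorem norm3 {i : Nat} (hi : i < 6) (hi0 : 0 < i) : w i ∈ Subgroup.normalizer (S3 : Set G) := by
  have := finite_S3
  exact norm_sup (norm4 hi hi0)
    (conj_mem (le_sup_left.trans S4_le_S3) hi (by norm_num) hi0 (by norm_num) w3_mem_S3)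

theorem b_inv_norm3 : gb⁻¹ ∈ Subgroup.normalizer (S3 : Set G) := by
  have := finite_S3
  exact norm_sup b_inv_norm4 (by rw [conj_b.2.2.1]; exact mul_mem w3_mem_S3 (S4_le_S3 w4_mem_S4))

theorem finite_S2 : Finite ↥S2 := by
  have := finite_S3
  exact finite_adjoin (p := 5) (by norm_num) (norm3 (by norm_num) (by norm_num))
    (by rw [pow_five 2 (by norm_num)]; exact one_mem _)

theorem norm2 {i : Nat} (hi : i < 6) (hi0 : 0 < i) : w i ∈ Subgroup.normalizer (S2 : Set G) := by
  have := finite_S2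
  exact norm_sup (norm3 hi hi0) (conj_mem ((le_sup_left.trans S4_le_S3).trans S3_le_S2) hi
    (by norm_num) hi0 (by norm_num) w2_mem_S2)

theorem b_inv_norm2 : gb⁻¹ ∈ Subgroup.normalizer (S2 : Set G) := by
  have := finite_S2
  exact norm_sup b_inv_norm3 (by rw [conj_b.2.1]; exact mul_mem w2_mem_S2 (S3_le_S2 w3_mem_S3))

theorem b_norm2 : gb ∈ Subgroup.normalizer (S2 : Set G) := by
  simpa using inv_mem b_inv_norm2

theorem finite_U1 : Finite ↥U1 := by
  have := finite_S2
  exact finite_adjoin (p := 5) (by norm_num) (norm2 (by norm_num) (by norm_num))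
    (by rw [pow_five 1 (by norm_num)]; exact one_mem _)

theorem b_inv_norm1 : gb⁻¹ ∈ Subgroup.normalizer (U1 : Set G) := by
  have := finite_U1
  exact norm_sup b_inv_norm2 (by rw [conj_b.1]; exact mul_mem w1_mem_U1 (S2_le_U1 w2_mem_S2))

theorem b_norm1 : gb ∈ Subgroup.normalizer (U1 : Set G) := by
  simpa using inv_mem b_inv_norm1

theorem finite_Us : Finite ↥Us := by
  have := finite_U1
  exact finite_adjoin (p := 5) (by norm_num) b_norm1 (by rw [pow_five 0 (by norm_num)]; exact one_mem _)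

theorem finite_Rs : Finite ↥Rs := by
  have := finite_S2
  exact finite_adjoin (p := 5) (by norm_num) b_norm2 (by rw [pow_five 0 (by norm_num)]; exact one_mem _)

theorem forall_mem_sup {K : Subgroup G} {x t : G} (hK : ∀ k ∈ K, Commute t k) (hx : Commute t x) :
    ∀ k ∈ K ⊔ Subgroup.zpowers x, Commute t k := by
  intro k hk
  have : K ⊔ Subgroup.zpowers x ≤ Subgroup.centralizer {t} := sup_le
    (fun z hz => Subgroup.mem_centralizer_singleton_iff.2 (hK z hz).symm)
    (Subgroup.zpowers_le.2 (Subgroup.mem_centralizer_singleton_iff.2 hx.symm))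
  exact (Subgroup.mem_centralizer_singleton_iff.1 (this hk)).symm

theorem commute_S5 {i : Nat} (hi : i < 6) (hi0 : 0 < i) : ∀ k ∈ S5, Commute (w i) k := by
  intro k hk
  obtain ⟨n, rfl⟩ := hk
  refine (commute_w hi (by norm_num) hi0 (by norm_num) ?_).zpow_right n
  rcases i with _ | _ | _ | _ | _ | i <;> rfl

theorem commute_S4 {i : Nat} (hi : i < 6) (hi0 : 0 < i) (h : ex i 4 = 0) :
    ∀ k ∈ S4, Commute (w i) k :=
  forall_mem_sup (commute_S5 hi hi0) (commute_w hi (by norm_num) hi0 (by norm_num) h)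

theorem commute_S3_w3 : ∀ k ∈ S3, Commute (w 3) k :=
  forall_mem_sup (commute_S4 (by norm_num) (by norm_num) rfl)
    (commute_w (by norm_num) (by norm_num) (by norm_num) (by norm_num) rfl)

theorem commute_S2_w4 : ∀ k ∈ S2, Commute (w 4) k :=
  forall_mem_sup (forall_mem_sup (commute_S4 (by norm_num) (by norm_num) rfl)
    (commute_w (by norm_num) (by norm_num) (by norm_num) (by norm_num) rfl))
    (commute_w (by norm_num) (by norm_num) (by norm_num) (by norm_num) rfl)

theorem w4_not_mem : w 4 ∉ S5 := fun h =>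
  not_commute_w (i := 1) (j := 4) (by norm_num) (by norm_num) (by norm_num) (by norm_num) (by decide)
    (commute_S5 (by norm_num) (by norm_num) _ h)

theorem w3_not_mem : w 3 ∉ S4 := fun h =>
  not_commute_w (i := 2) (j := 3) (by norm_num) (by norm_num) (by norm_num) (by norm_num) (by decide)
    (commute_S4 (by norm_num) (by norm_num) rfl _ h)

theorem w2_not_mem : w 2 ∉ S3 := fun h =>
  not_commute_w (i := 3) (j := 2) (by norm_num) (by norm_num) (by norm_num) (by norm_num) (by decide)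
    (commute_S3_w3 _ h)

theorem w1_not_mem : w 1 ∉ S2 := fun h =>
  not_commute_w (i := 4) (j := 1) (by norm_num) (by norm_num) (by norm_num) (by norm_num) (by decide)
    (commute_S2_w4 _ h)

theorem conj_U1_mem {k : G} (hk : k ∈ U1) : w 1 * k * (w 1)⁻¹ * k⁻¹ ∈ S5 := by
  have h5 : ∀ i, i < 6 → 0 < i → w i ∈ Subgroup.normalizer (S5 : Set G) := fun i a b => norm5 a b
  have hU : U1 ≤ Subgroup.closure {w 5, w 4, w 3, w 2, w 1} := by
    refine sup_le (sup_le (sup_le (sup_le ?_ ?_) ?_) ?_) ?_ <;>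
      exact Subgroup.zpowers_le.2 (Subgroup.subset_closure (by simp))
  have hle : ⁅Subgroup.closure {w 1}, Subgroup.closure {w 5, w 4, w 3, w 2, w 1}⁆ ≤ S5 := by
    refine commutator_closure_le ?_ ?_ ?_
    · rintro a rfl; exact h5 1 (by norm_num) (by norm_num)
    · rintro b (rfl | rfl | rfl | rfl | rfl) <;> exact h5 _ (by norm_num) (by norm_num)
    · rintro a rfl b (rfl | rfl | rfl | rfl | rfl) <;>
        rw [conj_w (by norm_num) (by norm_num) (by norm_num) (by norm_num)] <;>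
        rw [(commute_S5 (by norm_num) (by norm_num) _ (w5_pow_mem _)).eq, mul_inv_cancel_right] <;>
        exact w5_pow_mem _
  have := hle (Subgroup.commutator_mem_commutator (Subgroup.subset_closure rfl) (hU hk))
  rwa [commutatorElement_def] at this

theorem b_not_mem : gb ∉ U1 := fun h => by
  have h1 := conj_U1_mem h
  have e : w 1 * gb * (w 1)⁻¹ * gb⁻¹ = gb * w 1 * w 2 * (w 1)⁻¹ * gb⁻¹ := by rw [b_rels.1]
  rw [e] at h1
  have h3 : gb⁻¹ * (gb * w 1 * w 2 * (w 1)⁻¹ * gb⁻¹) * gb⁻¹⁻¹ ∈ S5 :=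
    (Subgroup.mem_normalizer_iff.1 b_inv_norm5 _).1 h1
  have h4 : w 1 * w 2 * (w 1)⁻¹ ∈ S5 := by
    convert h3 using 1
    group
  have h5 := (Subgroup.mem_normalizer_iff.1 (norm5 (i := 1) (by norm_num) (by norm_num)) (w 2)).2 h4
  exact w2_not_mem ((le_sup_left.trans S4_le_S3) h5)

theorem card_S5 : Nat.card ↥S5 = 5 := by
  rw [Nat.card_zpowers, orderOf_eq_prime (pow_five 5 (by norm_num)) w5_ne]

theorem card_S4 : Nat.card ↥S4 = 25 := by
  have := finite_S5
  rw [card_adjoin (by norm_num : Nat.Prime 5) (norm5 (by norm_num) (by norm_num))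
    (by rw [pow_five 4 (by norm_num)]; exact one_mem _) w4_not_mem, card_S5]

theorem card_S3 : Nat.card ↥S3 = 125 := by
  have := finite_S4
  rw [card_adjoin (by norm_num : Nat.Prime 5) (norm4 (by norm_num) (by norm_num))
    (by rw [pow_five 3 (by norm_num)]; exact one_mem _) w3_not_mem, card_S4]

theorem card_S2 : Nat.card ↥S2 = 625 := by
  have := finite_S3
  rw [card_adjoin (by norm_num : Nat.Prime 5) (norm3 (by norm_num) (by norm_num))
    (by rw [pow_five 2 (by norm_num)]; exact one_mem _) w2_not_mem, card_S3]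

theorem card_U1 : Nat.card ↥U1 = 3125 := by
  have := finite_S2
  rw [card_adjoin (by norm_num : Nat.Prime 5) (norm2 (by norm_num) (by norm_num))
    (by rw [pow_five 1 (by norm_num)]; exact one_mem _) w1_not_mem, card_S2]

theorem card_Us : Nat.card ↥Us = 15625 := by
  have := finite_U1
  rw [card_adjoin (by norm_num : Nat.Prime 5) b_norm1
    (by rw [pow_five 0 (by norm_num)]; exact one_mem _) b_not_mem, card_U1]

theorem card_Rs : Nat.card ↥Rs = 3125 := by
  have := finite_S2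
  rw [card_adjoin (by norm_num : Nat.Prime 5) b_norm2
    (by rw [pow_five 0 (by norm_num)]; exact one_mem _) (fun h => b_not_mem (S2_le_U1 h)), card_S2]

/-- The elements of `U1` commuting with all of it are central of order at most five. -/
theorem center_U1 {g : G} (hg : g ∈ U1) (hc : ∀ k ∈ U1, Commute g k) : g ∈ S5 := by
  have := finite_S2; have := finite_S3; have := finite_S4; have := finite_S5
  have hk : ∀ {x}, x ∈ U1 → Commute x g := fun hx => (hc _ hx).symm
  have m2 : w 2 ∈ U1 := S2_le_U1 w2_mem_S2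
  have m3 : w 3 ∈ U1 := S2_le_U1 (S3_le_S2 w3_mem_S3)
  have m4 : w 4 ∈ U1 := S2_le_U1 (S3_le_S2 (S4_le_S3 w4_mem_S4))
  have h5 : (5 : ℕ).Prime := by norm_num
  have g2 : g ∈ S2 := mem_of_commute h5 (norm2 (by norm_num) (by norm_num))
    (by rw [pow_five 1 (by norm_num)]; exact one_mem _) commute_S2_w4
    (not_commute_w (by norm_num) (by norm_num) (by norm_num) (by norm_num) (by decide)) hg (hk m4)
  have g3 : g ∈ S3 := mem_of_commute h5 (norm3 (by norm_num) (by norm_num))
    (by rw [pow_five 2 (by norm_num)]; exact one_mem _) commute_S3_w3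
    (not_commute_w (by norm_num) (by norm_num) (by norm_num) (by norm_num) (by decide)) g2 (hk m3)
  have g4 : g ∈ S4 := mem_of_commute h5 (norm4 (by norm_num) (by norm_num))
    (by rw [pow_five 3 (by norm_num)]; exact one_mem _) (commute_S4 (by norm_num) (by norm_num) rfl)
    (not_commute_w (i := 2) (by norm_num) (by norm_num) (by norm_num) (by norm_num) (by decide)) g3
    (hk m2)
  exact mem_of_commute h5 (norm5 (by norm_num) (by norm_num))
    (by rw [pow_five 4 (by norm_num)]; exact one_mem _) (commute_S5 (by norm_num) (by norm_num))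
    (not_commute_w (i := 1) (by norm_num) (by norm_num) (by norm_num) (by norm_num) (by decide)) g4
    (hk w1_mem_U1)

end Cfsg.Agent.LyOut
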