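import Cfsg.Agent.LyOut.Canon
import Cfsg.Agent.DCoset.Ly.Model

/-!
# The parabolic subgroup ⟨a, b, c⟩: order and normaliser of its extraspecial subgroup
-/

set_option autoImplicit false
set_option maxRecDepth 100000
set_option maxHeartbeats 1000000

namespace Cfsg.Agent.LyOut

open Cfsg.Agent.CosetCert Cfsg.Agent.DCoset Cfsg.Agent.LyMat

/-- The parabolic subgroup ⟨a, b, c⟩. -/
abbrev P1 : Subgroup G := Subgroup.closure {el [(0, true)], el [(1, true)], el [(2, true)]}

/-- `g` as a product of the series. -/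
def ser (e1 e2 e3 e4 e5 : Nat) : Wd :=
  pW (wW 1) e1 ++ pW (wW 2) e2 ++ pW (wW 3) e3 ++ pW (wW 4) e4 ++ pW (wW 5) e5

theorem el_ser (e1 e2 e3 e4 e5 : Nat) : el (ser e1 e2 e3 e4 e5) ∈ U1 := by
  simp only [ser, el_append, el_pW]
  exact mul_mem (mul_mem (mul_mem (mul_mem (pow_mem w1_mem_U1 _) (pow_mem (S2_le_U1 w2_mem_S2) _))
    (pow_mem (S2_le_U1 (S3_le_S2 w3_mem_S3)) _))
    (pow_mem (S2_le_U1 (S3_le_S2 (S4_le_S3 w4_mem_S4))) _))
    (pow_mem (S2_le_U1 (S3_le_S2 (S4_le_S3 w5_mem_S4))) _)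

theorem c_check : (chk [(5, true)] (ser 0 2 3 0 2) && (chk [(7, true)] (ser 0 2 0 3 0) &&
    (chk [(8, true)] (ser 0 2 1 4 4) && (chk [(2, true)] [(5, true)] &&
    (chk [(6, true)] [(0, false), (2, true), (0, true)] &&
    (chk [(7, true)] [(1, false), (2, true), (1, true)] &&
    (chk [(8, true)] [(1, true), (2, true), (1, false)] &&
     chk [(9, true)] [(5, false), (6, false), (5, true), (6, true)]))))))) = true := by
  decide +kernel

theorem gen_facts : el [(5, true)] ∈ U1 ∧ el [(7, true)] ∈ U1 ∧ el [(8, true)] ∈ U1 ∧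
    el [(5, true)] ∈ P1 ∧ el [(6, true)] ∈ P1 ∧ el [(7, true)] ∈ P1 ∧ el [(8, true)] ∈ P1 ∧
    el [(9, true)] ∈ P1 ∧ el [(2, true)] ∈ U1 := by
  have h := c_check
  simp only [Bool.and_eq_true] at h
  obtain ⟨h1, h3, h4, hc, k2, k3, k4, k5⟩ := h
  have ha : el [(0, true)] ∈ P1 := Subgroup.subset_closure (by simp)
  have hb : el [(1, true)] ∈ P1 := Subgroup.subset_closure (by simp)
  have h2 : el [(2, true)] ∈ P1 := Subgroup.subset_closure (by simp)
  have i0 : ∀ i : Fin 10, el [(i, false)] = (el [(i, true)])⁻¹ := fun i => el_inv [(i, true)]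
  have e3 : ∀ x y z : Fin 10 × Bool, el [x, y, z] = el [x] * el [y] * el [z] := fun x y z => by
    rw [← el_append, ← el_append]; rfl
  have p1 : el [(5, true)] ∈ P1 := el_eq hc ▸ h2
  have p2 : el [(6, true)] ∈ P1 := by
    rw [el_eq k2, e3, i0]; exact mul_mem (mul_mem (inv_mem ha) h2) ha
  have p3 : el [(7, true)] ∈ P1 := by
    rw [el_eq k3, e3, i0]; exact mul_mem (mul_mem (inv_mem hb) h2) hb
  have p4 : el [(8, true)] ∈ P1 := by
    rw [el_eq k4, e3, i0]; exact mul_mem (mul_mem hb h2) (inv_mem hb)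
  have p5 : el [(9, true)] ∈ P1 := by
    rw [el_eq k5, show el [((5 : Fin 10), false), (6, false), (5, true), (6, true)] =
      el [((5 : Fin 10), false)] * el [((6 : Fin 10), false)] * el [((5 : Fin 10), true)] *
        el [((6 : Fin 10), true)] by rw [← el_append, ← el_append, ← el_append]; rfl, i0, i0]
    exact mul_mem (mul_mem (mul_mem (inv_mem p1) (inv_mem p2)) p1) p2
  have u1 : el [(5, true)] ∈ U1 := el_eq h1 ▸ el_ser _ _ _ _ _
  exact ⟨u1, el_eq h3 ▸ el_ser _ _ _ _ _, el_eq h4 ▸ el_ser _ _ _ _ _, p1, p2, p3, p4, p5,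
    el_eq hc ▸ u1⟩

theorem el_pL (i : Fin 10) : ∀ n, el (pL i n) = el [(i, true)] ^ n
  | 0 => by simp [pL, el_nil]
  | n + 1 => by
    rw [pL, List.replicate_succ, ← List.singleton_append, el_append, ← pL, el_pL i n, pow_succ']

theorem w_mem_P1 : ∀ i, i < 6 → w i ∈ P1 := by
  obtain ⟨-, -, -, p1, p2, p3, p4, p5, -⟩ := gen_facts
  have hb : el [(1, true)] ∈ P1 := Subgroup.subset_closure (by simp)
  intro i hi
  interval_cases i
  · exact hb
  · exact p2
  all_goals first
    | exact p5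
    | (simp only [w, wW, el_append, el_pL]
       exact mul_mem (mul_mem (mul_mem (pow_mem p1 _) (pow_mem p3 _)) (pow_mem p4 _)) (pow_mem p5 _))

theorem U1_le_P1 : U1 ≤ P1 :=
  sup_le (sup_le (sup_le (sup_le (Subgroup.zpowers_le.2 (w_mem_P1 5 (by norm_num)))
    (Subgroup.zpowers_le.2 (w_mem_P1 4 (by norm_num)))) (Subgroup.zpowers_le.2 (w_mem_P1 3 (by norm_num))))
    (Subgroup.zpowers_le.2 (w_mem_P1 2 (by norm_num)))) (Subgroup.zpowers_le.2 (w_mem_P1 1 (by norm_num)))

theorem Us_le_P1 : Us ≤ P1 := sup_le U1_le_P1 (Subgroup.zpowers_le.2 (w_mem_P1 0 (by norm_num)))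

theorem conj_a_check : (chk ([(0, true)] ++ wW 1 ++ [(0, false)]) (ser 0 2 3 0 2) &&
    (chk ([(0, true)] ++ wW 2 ++ [(0, false)]) (ser 2 1 1 1 4) &&
    (chk ([(0, true)] ++ wW 3 ++ [(0, false)]) (ser 1 1 1 1 4) &&
    (chk ([(0, true)] ++ wW 4 ++ [(0, false)]) (ser 2 1 2 3 0) &&
     chk ([(0, true)] ++ wW 5 ++ [(0, false)]) (ser 0 0 0 0 3))))) = true := by
  decide +kernel

theorem a_norm1 : el [(0, true)] ∈ Subgroup.normalizer (U1 : Set G) := by
  have := finite_U1
  refine mem_normalizer_of_conj_mem fun k hk => ?_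
  have h := conj_a_check
  simp only [Bool.and_eq_true] at h
  obtain ⟨h1, h2, h3, h4, h5⟩ := h
  have key : ∀ {i : Nat} {l : Wd}, chk ([(0, true)] ++ wW i ++ [(0, false)]) l = true → el l ∈ U1 →
      el [(0, true)] * w i * (el [(0, true)])⁻¹ ∈ U1 := fun {i l} hh hl => by
    rw [← el_inv [(0, true)], ← el_append, ← el_append]
    exact (el_eq hh : el ([(0, true)] ++ wW i ++ FreeGroup.invRev [(0, true)]) = el l) ▸ hl
  have hU : U1 ≤ U1.comap (MulAut.conj (el [(0, true)])).toMonoidHom :=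
    sup_le (sup_le (sup_le (sup_le (Subgroup.zpowers_le.2 (key h5 (el_ser _ _ _ _ _)))
      (Subgroup.zpowers_le.2 (key h4 (el_ser _ _ _ _ _)))) (Subgroup.zpowers_le.2 (key h3 (el_ser _ _ _ _ _))))
      (Subgroup.zpowers_le.2 (key h2 (el_ser _ _ _ _ _)))) (Subgroup.zpowers_le.2 (key h1 (el_ser _ _ _ _ _)))
  exact hU hk

theorem P1_le_normalizer : P1 ≤ Subgroup.normalizer (U1 : Set G) := by
  rw [Subgroup.closure_le]
  rintro x (rfl | rfl | rfl)
  exacts [a_norm1, b_norm1, Subgroup.le_normalizer gen_facts.2.2.2.2.2.2.2.2]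

theorem P1_le_Hs : P1 ≤ Hs := by
  rw [Subgroup.closure_le]
  rintro x (rfl | rfl | rfl) <;> exact el_mem _

theorem transitive (p : Fin 3906) : ∃ q : LyMat.Q, (Ly.rho q)⁻¹ (Ly.bpt 0) = p := by
  classical
  have hk : 0 < Ly.tab.k := by decide +kernel
  have hsz : Ly.qChain.size 0 = 3906 := by decide +kernel
  have hp := fun m (hm : m < 3906) =>
    allFrom_all (allFrom_all Ly.qChain_pt hk : _) (show m < Ly.qChain.size 0 from hsz.symm ▸ hm)
  have hpt : ∀ m, m < 3906 → ∃ q : LyMat.Q, ((Ly.rho q)⁻¹ (Ly.bpt 0)).val = Ly.qChain.pt 0 m := by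
    intro m
    induction m using Nat.strong_induction_on with
    | _ m ih =>
      intro hm
      have h := hp m hm
      simp only [QModel.checkPt, force_eq, gate_eq, Bool.and_eq_true] at h
      obtain ⟨-, h⟩ := h
      cases hb : Nat.beq m 0
      · rw [hb] at h
        simp only [Bool.and_eq_true] at h
        obtain ⟨hr, ha, he⟩ := h
        have hr' := Nat.ble_eq.mp hr
        obtain ⟨q, hq⟩ := ih _ hr' (by omega)
        have hg := allFrom_all (allFrom_all Ly.qChain_gen hk : _) (Nat.ble_eq.mp ha)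
        simp only [QModel.checkGen, force_eq, gate_eq, Bool.and_eq_true] at hg
        refine ⟨q * valW Ly.qL (wLen (Ly.qChain.gen 0 (Ly.qChain.via 0 m)))
          (wBody (Ly.qChain.gen 0 (Ly.qChain.via 0 m))), ?_⟩
        rw [map_mul, mul_inv_rev, Equiv.Perm.mul_apply]
        erw [← Ly.acts.foldW_eq _ _ _ hg.1]
        rw [hq]
        exact Nat.eq_of_beq_eq_true he
      · rw [hb] at h
        refine ⟨1, ?_⟩
        simp only [map_one, inv_one, Equiv.Perm.one_apply]
        rw [← Ly.acts.fld_base hk]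
        exact (Nat.eq_of_beq_eq_true h).symm
  choose f hf using hpt
  let F : Fin 3906 → Fin 3906 := fun m => (Ly.rho (f m m.2))⁻¹ (Ly.bpt 0)
  have hinj : Function.Injective F := by
    intro m n he
    have e : Ly.qChain.pt 0 m = Ly.qChain.pt 0 n := by
      rw [← hf m m.2, ← hf n n.2]; exact congrArg Fin.val he
    have hm := hp m m.2
    have hn := hp n n.2
    simp only [QModel.checkPt, force_eq, gate_eq, Bool.and_eq_true] at hm hn
    apply Fin.ext
    rw [← Nat.eq_of_beq_eq_true hm.1, ← Nat.eq_of_beq_eq_true hn.1, e]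
  obtain ⟨m, hm⟩ := (Finite.injective_iff_surjective.1 hinj) p
  exact ⟨f m m.2, hm⟩

/-- The point fixed by ⟨a, b, c⟩. -/
abbrev p0 : Fin 3906 := ⟨0, by norm_num⟩

/-- The stabiliser of the point. -/
noncomputable abbrev Stab0 : Subgroup LyMat.Q := (MulAction.stabilizer (Equiv.Perm (Fin 3906)) p0).comap Ly.rho

theorem fixed_check : ([0, 1, 2, 5, 6, 7, 8, 9] : List Nat).all (fun i =>
    Nat.beq (Ly.goL Ly.tab.act (Ly.genWord.getD i []) 0) 0) = true := by
  decide +kernel

theorem sub_le_stab : Data.sub (wordRels LyChain1.relWords) (LyChain1.subLetters.map FreeGroup.of) ≤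
    Stab0 := by
  rw [Data.sub, MonoidHom.map_closure, Subgroup.closure_le]
  rintro _ ⟨x, hx, rfl⟩
  obtain ⟨i, hi, rfl⟩ := List.mem_map.1 hx
  show Ly.rho (PresentedGroup.of i) • p0 = p0
  rw [Ly.rho, PresentedGroup.toGroup.of, Ly.genPerm, eq_comm, ← inv_smul_eq_iff]
  refine Fin.ext ?_
  show ((Ly.wordEl _)⁻¹ p0).val = 0
  rw [Ly.wordEl_apply _ (Ly.genWord_lt i)]
  exact Nat.eq_of_beq_eq_true (List.all_eq_true.1 fixed_check i.val (by
    simp [LyChain1.subLetters] at hi
    rcases hi with rfl | rfl | rfl | rfl | rfl | rfl | rfl | rfl <;> simp))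

theorem card_Q : Nat.card LyMat.Q = 5859000000 := by
  have := Ly.q_finite
  obtain ⟨e⟩ := q_iso
  rw [Nat.card_congr e.toEquiv]
  have h := Chev.g2_card_group (ZMod 5)
  simp [ZMod.card, Fin.prod_univ_two] at h
  omega

theorem stab_eq : Stab0 = Data.sub (wordRels LyChain1.relWords) (LyChain1.subLetters.map FreeGroup.of) ∧
    Nat.card Stab0 = 1500000 := by
  have := Ly.q_finite
  obtain ⟨-, hi⟩ := LyChain1.index_bound
  set S := Data.sub (wordRels LyChain1.relWords) (LyChain1.subLetters.map FreeGroup.of)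
  have hge : 3906 ≤ Stab0.index := by
    let f : LyMat.Q ⧸ Stab0 → Fin 3906 := fun z => Quotient.liftOn' z (fun q => Ly.rho q • p0)
      (fun a b h => by
        rw [QuotientGroup.leftRel_apply] at h
        have h' : Ly.rho (a⁻¹ * b) • p0 = p0 := h
        rw [map_mul, map_inv, mul_smul, inv_smul_eq_iff] at h'
        exact h'.symm)
    have hf : Function.Surjective f := fun p => by
      obtain ⟨q, hq⟩ := transitive p
      obtain ⟨r, hr⟩ := transitive p0
      refine ⟨QuotientGroup.mk (q⁻¹ * r), ?_⟩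
      show Ly.rho (q⁻¹ * r) • p0 = p
      rw [← hq, ← hr, ← Equiv.Perm.smul_def, ← Equiv.Perm.smul_def, ← mul_smul]
      congr 1
      simp
    rw [Subgroup.index_eq_card]
    exact (Nat.card_fin 3906).symm.le.trans (Nat.card_le_card_of_surjective f hf)
  have heq : Stab0 = S := by
    refine (Subgroup.eq_of_le_of_card_ge sub_le_stab ?_).symm
    have h1 := Stab0.card_mul_index
    have h2 := S.card_mul_index
    by_contra hlt
    push_neg at hlt
    have h3 : Nat.card S * S.index < Nat.card Stab0 * Stab0.index :=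
      Nat.mul_lt_mul_of_lt_of_le hlt (hi.trans hge) (Nat.pos_of_ne_zero (by
        rw [Subgroup.index_eq_card]; exact Nat.card_pos.ne'))
    exact absurd (h2.trans h1.symm) (Nat.ne_of_lt h3)
  refine ⟨heq, ?_⟩
  have h1 := Stab0.card_mul_index
  have h3 : Stab0.index = 3906 := le_antisymm (heq ▸ hi) hge
  rw [h3, card_Q] at h1
  omega

/-- The embedding of the presented group as an isomorphism onto ⟨a, b, c, d⟩. -/
theorem exists_iso : ∃ ψ : LyMat.Q →* G, Function.Injective ψ ∧ ψ.range = Hs ∧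
    (∀ l : Wd, ψ (PresentedGroup.mk _ (FreeGroup.mk l)) = el l) ∧ P1 = Stab0.map ψ := by
  obtain ⟨ψ, hi, hψ⟩ := exists_embed
  have hof : ∀ i : Fin 10, ψ (PresentedGroup.of i) = el [(i, true)] := fun i => hψ [(i, true)]
  refine ⟨ψ, hi, ?_, hψ, ?_⟩
  · apply le_antisymm
    · rintro _ ⟨q, rfl⟩
      obtain ⟨v, rfl⟩ := PresentedGroup.mk_surjective _ q
      rw [← FreeGroup.mk_toWord (x := v), hψ]
      exact el_mem _
    · rw [Hs, lyH, MonoidHom.map_closure, Subgroup.closure_le]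
      rintro _ ⟨x, hx, rfl⟩
      rcases hx with rfl | rfl | rfl | rfl
      exacts [⟨_, hof 0⟩, ⟨_, hof 1⟩, ⟨_, hof 2⟩, ⟨_, hof 3⟩]
  · obtain ⟨-, -, -, p1, p2, p3, p4, p5, -⟩ := gen_facts
    rw [stab_eq.1, Data.sub, Subgroup.map_map, MonoidHom.map_closure]
    apply le_antisymm
    · rw [Subgroup.closure_le]
      rintro x (rfl | rfl | rfl)
      · exact Subgroup.subset_closure ⟨FreeGroup.of 0, List.mem_map_of_mem (by decide), hof 0⟩
      · exact Subgroup.subset_closure ⟨FreeGroup.of 1, List.mem_map_of_mem (by decide), hof 1⟩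
      · exact Subgroup.subset_closure ⟨FreeGroup.of 2, List.mem_map_of_mem (by decide), hof 2⟩
    · rw [Subgroup.closure_le]
      rintro _ ⟨x, hx, rfl⟩
      obtain ⟨i, hi', rfl⟩ := List.mem_map.1 hx
      show ψ (PresentedGroup.of i) ∈ P1
      rw [hof]
      simp [LyChain1.subLetters] at hi'
      rcases hi' with rfl | rfl | rfl | rfl | rfl | rfl | rfl | rfl
      exacts [Subgroup.subset_closure (by simp), Subgroup.subset_closure (by simp),
        Subgroup.subset_closure (by simp), p1, p2, p3, p4, p5]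

theorem card_P1 : Nat.card ↥P1 = 1500000 := by
  obtain ⟨ψ, hi, -, -, hP⟩ := exists_iso
  rw [hP, ← Nat.card_congr (Subgroup.equivMapOfInjective _ _ hi).toEquiv, stab_eq.2]

theorem card_Hs : Nat.card ↥Hs = 5859000000 := by
  obtain ⟨ψ, hi, hr, -, -⟩ := exists_iso
  rw [← hr, ← Nat.card_congr (MonoidHom.ofInjective hi).toEquiv, card_Q]

theorem finite_Hs : Finite ↥Hs := Nat.finite_of_card_ne_zero (by rw [card_Hs]; norm_num)

theorem only_fixed : allFrom (fun p => Nat.beq p 0 ||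
    (!(Nat.beq (Ly.goL Ly.tab.act (Ly.genWord.getD 5 []) p) p) ||
     !(Nat.beq (Ly.goL Ly.tab.act (Ly.genWord.getD 6 []) p) p))) 0 3906 = true := by
  decide +kernel

theorem fix_unique {p : Fin 3906} (h5 : Ly.rho (PresentedGroup.of 5) • p = p)
    (h6 : Ly.rho (PresentedGroup.of 6) • p = p) : p = p0 := by
  have key : ∀ i : Fin 10, Ly.rho (PresentedGroup.of i) • p = p →
      Ly.goL Ly.tab.act (Ly.genWord.getD i.val []) p.val = p.val := by
    intro i h
    rw [Ly.rho, PresentedGroup.toGroup.of, Ly.genPerm, eq_comm, ← inv_smul_eq_iff] at h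
    rw [← Ly.wordEl_apply _ (Ly.genWord_lt i)]
    exact congrArg Fin.val h
  have e5 : Ly.goL Ly.tab.act (Ly.genWord.getD 5 []) p.val = p.val := key 5 h5
  have e6 : Ly.goL Ly.tab.act (Ly.genWord.getD 6 []) p.val = p.val := key 6 h6
  have h := allFrom_all only_fixed p.2
  rw [e5, e6, Nat.beq_refl] at h
  exact Fin.ext (Nat.eq_of_beq_eq_true (by simpa using h))

/-- In ⟨a, b, c, d⟩ the normaliser of the extraspecial subgroup is the parabolic. -/
theorem mem_P1_of_norm {h : G} (hh : h ∈ Hs) (hn : h ∈ Subgroup.normalizer (U1 : Set G)) :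
    h ∈ P1 := by
  obtain ⟨ψ, hi, hr, hψ, hP⟩ := exists_iso
  obtain ⟨q, rfl⟩ := hr.ge hh
  rw [hP]
  refine Subgroup.mem_map_of_mem ψ ?_
  have hU : U1 ≤ Stab0.map ψ := hP ▸ U1_le_P1
  have hfix : ∀ i : Fin 10, el [(i, true)] ∈ U1 →
      Ly.rho (PresentedGroup.of i) • (Ly.rho q • p0) = Ly.rho q • p0 := by
    intro i hi'
    have h1 : (ψ q)⁻¹ * el [(i, true)] * ψ q ∈ U1 :=
      (Subgroup.mem_normalizer_iff.1 hn _).2 (by simpa [mul_assoc] using hi')
    obtain ⟨s, hs, hse⟩ := hU h1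
    have e : s = q⁻¹ * PresentedGroup.of i * q := hi (by
      rw [hse, map_mul, map_mul, map_inv, show ψ (PresentedGroup.of i) = el [(i, true)] from hψ [(i, true)]])
    have hs' : Ly.rho s • p0 = p0 := hs
    rw [e, map_mul, map_mul, map_inv, mul_smul, mul_smul, inv_smul_eq_iff] at hs'
    exact hs'
  exact fix_unique (hfix 5 gen_facts.1) (hfix 6 w1_mem_U1)

end Cfsg.Agent.LyOut
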