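import Cfsg.Agent.LyOut.Points
import Cfsg.Agent.LyOut.FiveData

/-!
# The action of the normaliser of `U1` on its six fixed cosets: generators and kernel
-/

set_option autoImplicit false
set_option maxRecDepth 100000
set_option maxHeartbeats 1000000

namespace Cfsg.Agent.LyOut

variable (F : Facts)

theorem gz_NU : gz ∈ NU := z_norm1

theorem a2_eq : el a2W = gb * ga * gb⁻¹ := by
  rw [show gb⁻¹ = el [((1 : Fin 10), false)] from (el_inv [((1 : Fin 10), true)]).symm]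
  show el a2W = el [((1 : Fin 10), true)] * el [((0 : Fin 10), true)] * el [((1 : Fin 10), false)]
  rw [← el_append, ← el_append]; rfl

theorem a3_eq : el a3W = gb * (gb * ga * gb⁻¹) * gb⁻¹ := by
  rw [show gb⁻¹ = el [((1 : Fin 10), false)] from (el_inv [((1 : Fin 10), true)]).symm]
  show el a3W = el [((1 : Fin 10), true)] * (el [((1 : Fin 10), true)] * el [((0 : Fin 10), true)] *
    el [((1 : Fin 10), false)]) * el [((1 : Fin 10), false)]
  rw [← el_append, ← el_append, ← el_append, ← el_append]; rfl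

theorem a2_NU : el a2W ∈ NU := a2_eq ▸ mul_mem (mul_mem gb_NU ga_NU) (inv_mem gb_NU)
theorem a3_NU : el a3W ∈ NU :=
  a3_eq ▸ mul_mem (mul_mem gb_NU (mul_mem (mul_mem gb_NU ga_NU) (inv_mem gb_NU))) (inv_mem gb_NU)

/-- The second transposition. -/
abbrev β6 : Equiv.Perm (Fin 6) := σ6 * α6 * σ6⁻¹
/-- The third transposition. -/
abbrev δ6 : Equiv.Perm (Fin 6) := σ6 * β6 * σ6⁻¹

theorem pi_a2 : pi F ⟨el a2W, a2_NU⟩ = β6 := by
  rw [show (⟨el a2W, a2_NU⟩ : ↥NU) = ⟨gb, gb_NU⟩ * ⟨ga, ga_NU⟩ * ⟨gb, gb_NU⟩⁻¹ from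
    Subtype.ext a2_eq, map_mul, map_mul, map_inv, pi_b, pi_a]

theorem pi_a3 : pi F ⟨el a3W, a3_NU⟩ = δ6 := by
  rw [show (⟨el a3W, a3_NU⟩ : ↥NU) =
    ⟨gb, gb_NU⟩ * (⟨gb, gb_NU⟩ * ⟨ga, ga_NU⟩ * ⟨gb, gb_NU⟩⁻¹) * ⟨gb, gb_NU⟩⁻¹ from
    Subtype.ext a3_eq]
  simp only [map_mul, map_inv, pi_b, pi_a]

set_option synthInstance.maxSize 1000 in
theorem perm_unique : ∀ p2 p3 p4 p5 : Fin 6, p2 ≠ 0 → p2 ≠ 1 → p3 ≠ 0 → p3 ≠ 1 →
    α6 p2 = p3 → α6 p4 = p4 → α6 p5 = p5 → β6 p2 = p2 → β6 p3 = p4 → β6 p5 = p5 →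
    δ6 p2 = p2 → δ6 p3 = p3 → δ6 p4 = p5 → p2 = 2 ∧ p3 = 3 ∧ p4 = 4 ∧ p5 = 5 := by
  decide +kernel

/-- A permutation exchanging the first two points and commuting with the three transpositions. -/
theorem eq_τ6 {x : Equiv.Perm (Fin 6)} (h0 : x 0 = 1) (h1 : x 1 = 0) (ha : Commute α6 x)
    (hb : Commute β6 x) (hd : Commute δ6 x) : x = τ6 := by
  have e : ∀ {p : Equiv.Perm (Fin 6)}, Commute p x → ∀ i j, p i = j → p (x i) = x j := fun {p} h i j hij =>
    by rw [← Equiv.Perm.mul_apply, h.eq, Equiv.Perm.mul_apply, hij]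
  have n0 : ∀ i, i ≠ 1 → x i ≠ 0 := fun i hi h => hi (x.injective (h.trans h1.symm))
  have n1 : ∀ i, i ≠ 0 → x i ≠ 1 := fun i hi h => hi (x.injective (h.trans h0.symm))
  obtain ⟨e2, e3, e4, e5⟩ := perm_unique (x 2) (x 3) (x 4) (x 5) (n0 2 (by decide)) (n1 2 (by decide))
    (n0 3 (by decide)) (n1 3 (by decide)) (e ha 2 3 (by decide +kernel))
    (e ha 4 4 (by decide +kernel)) (e ha 5 5 (by decide +kernel)) (e hb 2 2 (by decide +kernel))
    (e hb 3 4 (by decide +kernel)) (e hb 5 5 (by decide +kernel)) (e hd 2 2 (by decide +kernel))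
    (e hd 3 3 (by decide +kernel)) (e hd 4 5 (by decide +kernel))
  refine Equiv.ext fun i => ?_
  fin_cases i
  exacts [h0.trans (by decide), h1.trans (by decide), e2.trans (by decide), e3.trans (by decide),
    e4.trans (by decide), e5.trans (by decide)]

theorem pi_z : pi F ⟨gz, gz_NU⟩ = τ6 := by
  set Z : ↥NU := ⟨gz, gz_NU⟩
  have h0 : pi F Z 0 = 1 := pi_eq F (by
    show gz • base = gb ^ 0 • zb
    rw [pow_zero, one_smul]
    show (QuotientGroup.mk (gz * 1) : G ⧸ Hs) = _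
    rw [mul_one])
  have h1 : pi F Z 1 = 0 := pi_eq F (by
    show gz • gb ^ 0 • zb = base
    rw [pow_zero, one_smul]
    show (QuotientGroup.mk (gz * gz) : G ⧸ Hs) = QuotientGroup.mk 1
    rw [QuotientGroup.eq, mul_one]
    exact inv_mem (z_sq ▸ el_mem _))
  refine eq_τ6 h0 h1 ?_ ?_ ?_
  · have e : Z⁻¹ * ⟨ga, ga_NU⟩ * Z = (⟨ga, ga_NU⟩ : ↥NU)⁻¹ ^ 3 := Subtype.ext <| z_a.trans (by
      show el [((0 : Fin 10), false), (0, false), (0, false)] = ga⁻¹ ^ 3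
      rw [show ga⁻¹ = el [((0 : Fin 10), false)] from (el_inv [((0 : Fin 10), true)]).symm, pow_three,
        ← el_append, ← el_append]; rfl)
    have := congrArg (pi F) e
    rw [map_mul, map_mul, map_inv, map_pow, map_inv, pi_a,
      show α6⁻¹ ^ 3 = α6 by decide +kernel, mul_assoc, inv_mul_eq_iff_eq_mul] at this
    exact this
  · have e : Z⁻¹ * ⟨el a2W, a2_NU⟩ * Z =
        ⟨gb, gb_NU⟩ * (⟨ga, ga_NU⟩ : ↥NU)⁻¹ * ⟨gb, gb_NU⟩⁻¹ * ⟨ga, ga_NU⟩⁻¹ * ⟨ga, ga_NU⟩⁻¹ :=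
      Subtype.ext <| z_a2.trans (by
      show el [((1 : Fin 10), true), (0, false), (1, false), (0, false), (0, false)] =
        gb * ga⁻¹ * gb⁻¹ * ga⁻¹ * ga⁻¹
      rw [show ga⁻¹ = el [((0 : Fin 10), false)] from (el_inv [((0 : Fin 10), true)]).symm,
        show gb⁻¹ = el [((1 : Fin 10), false)] from (el_inv [((1 : Fin 10), true)]).symm]
      show _ = el [((1 : Fin 10), true)] * _ * _ * _ * _
      rw [← el_append, ← el_append, ← el_append, ← el_append]; rfl)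
    have := congrArg (pi F) e
    simp only [map_mul, map_inv, pi_a, pi_a2, pi_b] at this
    rw [show σ6 * α6⁻¹ * σ6⁻¹ * α6⁻¹ * α6⁻¹ = β6 by decide +kernel, mul_assoc,
      inv_mul_eq_iff_eq_mul] at this
    exact this
  · have e : Z⁻¹ * ⟨el a3W, a3_NU⟩ * Z = ⟨ga, ga_NU⟩ * ⟨el a3W, a3_NU⟩ * ⟨ga, ga_NU⟩⁻¹ :=
      Subtype.ext <| z_a3.trans (by
      show el [((0 : Fin 10), true), (1, true), (1, true), (0, true), (1, false), (1, false), (0, false)] =
        el [((0 : Fin 10), true)] * el a3W * (el [((0 : Fin 10), true)])⁻¹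
      rw [← el_inv, ← el_append, ← el_append]; rfl)
    have := congrArg (pi F) e
    simp only [map_mul, map_inv, pi_a, pi_a3] at this
    rw [show α6 * δ6 * α6⁻¹ = δ6 by decide +kernel, mul_assoc, inv_mul_eq_iff_eq_mul] at this
    exact this

/-- The element of order four modulo `U1` normalising `U`. -/
def hW : Wd := [(0, true)] ++ a3W ++ a2W

/-- `a · (b² a b⁻²) · (b a b⁻¹)`. -/
abbrev gh : G := el hW

/-- The third generator of the transitive group. -/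
abbrev gg : G := gz * gb * ga

theorem gh_NU : gh ∈ NU := by
  simp only [gh, hW, el_append]
  exact mul_mem (mul_mem ga_NU a3_NU) a2_NU

theorem gg_NU : gg ∈ NU := mul_mem (mul_mem gz_NU gb_NU) ga_NU

theorem pi_h : pi F ⟨gh, gh_NU⟩ = μ6 := by
  rw [show (⟨gh, gh_NU⟩ : ↥NU) = ⟨ga, ga_NU⟩ * ⟨el a3W, a3_NU⟩ * ⟨el a2W, a2_NU⟩ from
    Subtype.ext (by simp only [gh, hW, el_append]; rfl), map_mul, map_mul, pi_a, pi_a2, pi_a3]
  rfl

theorem pi_g : pi F ⟨gg, gg_NU⟩ = γ6 := by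
  rw [show (⟨gg, gg_NU⟩ : ↥NU) = ⟨gz, gz_NU⟩ * ⟨gb, gb_NU⟩ * ⟨ga, ga_NU⟩ from rfl,
    map_mul, map_mul, pi_z, pi_b, pi_a]
  rfl

/-- The kernel on the six points. -/
abbrev K0 : Subgroup G := U1 ⊔ Subgroup.zpowers (ga ^ 4) ⊔ Subgroup.zpowers (ga ^ 2)

theorem a4_check : chk (pL 0 4 ++ wW 1 ++ FreeGroup.invRev (pL 0 4)) (pW (wW 1) 4) = true := by
  decide +kernel

theorem a4_ne : ga ^ 4 ≠ 1 := by
  intro h
  have e := el_eq a4_check
  simp only [el_append, el_inv, el_pL, el_pW, h, one_mul, inv_one, mul_one] at e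
  have h3 : w 1 ^ 3 = 1 := by
    have e' : w 1 * 1 = w 1 * w 1 ^ 3 := by rw [mul_one, ← pow_succ']; exact e
    exact (mul_left_cancel e').symm
  have h1 : w 1 = 1 := by
    rw [show w 1 = (w 1 ^ 3) ^ 2 * (w 1 ^ 5)⁻¹ by group, h3, pow_five 1 (by norm_num), one_pow,
      inv_one, mul_one]
  exact w1_not_mem (h1 ▸ one_mem S2)

include F in
theorem card_K0 : Nat.card ↥K0 = 12500 := by
  have := F.finite
  have hn : ∀ n, ga ^ n ∈ NU := fun n => pow_mem ga_NU n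
  have h4 : ga ^ 4 ∉ U1 := by
    intro h
    have h1 : orderOf (ga ^ 4) ∣ 3125 := card_U1 ▸ Subgroup.orderOf_dvd_natCard U1 h
    have h2 : orderOf (ga ^ 4) ∣ 2 := orderOf_dvd_of_pow_eq_one (by rw [← pow_mul]; exact a_pow_eight)
    have h12 := Nat.dvd_gcd h1 h2
    norm_num at h12
    exact a4_ne h12
  have c1 : Nat.card ↥(U1 ⊔ Subgroup.zpowers (ga ^ 4)) = 6250 := by
    rw [card_adjoin Nat.prime_two (hn 4)
      (by rw [← pow_mul, a_pow_eight]; exact one_mem _) h4, card_U1]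
  have hn2 : ga ^ 2 ∈ Subgroup.normalizer ((U1 ⊔ Subgroup.zpowers (ga ^ 4) : Subgroup G) : Set G) := by
    refine norm_sup (hn 2) ?_
    rw [show ga ^ 2 * ga ^ 4 * (ga ^ 2)⁻¹ = ga ^ 4 by group]
    exact (le_sup_right : Subgroup.zpowers (ga ^ 4) ≤ _) (Subgroup.mem_zpowers _)
  have h2 : ga ^ 2 ∉ U1 ⊔ Subgroup.zpowers (ga ^ 4) := by
    intro h
    have h1 : orderOf (ga ^ 2) ∣ 6250 := c1 ▸ Subgroup.orderOf_dvd_natCard _ h
    have h4' : orderOf (ga ^ 2) = 2 ^ (1 + 1) := orderOf_eq_prime_pow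
      (by rw [← pow_mul]; exact a4_ne) (by rw [← pow_mul]; exact a_pow_eight)
    rw [h4'] at h1
    norm_num at h1
  rw [card_adjoin Nat.prime_two hn2 (by
    rw [← pow_mul]; exact (le_sup_right : Subgroup.zpowers (ga ^ 4) ≤ _) (Subgroup.mem_zpowers _)) h2, c1]

theorem five_check : (fiveWords.map fun l => evL (lst α6) l).Nodup ∧ fiveWords.length = 120 := by
  decide +kernel

/-- The action restricted to the parabolic. -/
noncomputable def piP : ↥P1 →* Equiv.Perm (Fin 6) := (pi F).comp (Subgroup.inclusion P1_le_normalizer)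

include F in
theorem card_piP : 120 ≤ Nat.card ↥(piP F).range := by
  have hb : el [(1, true)] ∈ P1 := Subgroup.subset_closure (by simp)
  have ha : ga ∈ P1 := Subgroup.subset_closure (by simp)
  have hbi : el [(1, false)] ∈ P1 := (el_inv [(1, true)] ▸ inv_mem hb :)
  have hh : gh ∈ P1 := by
    have h2 : el a2W ∈ P1 := a2_eq ▸ mul_mem (mul_mem hb ha) (inv_mem hb)
    have h3 : el a3W ∈ P1 :=
      a3_eq ▸ mul_mem (mul_mem hb (mul_mem (mul_mem hb ha) (inv_mem hb))) (inv_mem hb)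
    simp only [gh, hW, el_append]
    exact mul_mem (mul_mem ha h3) h2
  have hs : σ6 ∈ (piP F).range := ⟨⟨gb, hb⟩, pi_b F⟩
  have hm : μ6 ∈ (piP F).range := ⟨⟨gh, hh⟩, pi_h F⟩
  have hx : α6 ∈ (piP F).range := ⟨⟨ga, ha⟩, pi_a F⟩
  have hy : ∀ i : Fin fiveWords.length, ∃ y : ↥(piP F).range,
      (fiveWords.map fun l => evL (lst α6) l)[i.val]'(by simp) = lst y.1 := fun i => by
    obtain ⟨y, hy, e⟩ := evL_mem hs hm hx fiveWords[i.val]
    exact ⟨⟨y, hy⟩, by rw [List.getElem_map, e]⟩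
  choose f hf using hy
  have h := Nat.card_le_card_of_injective f fun i j e => Fin.ext <|
    (five_check.1.getElem_inj_iff (hi := by simp) (hj := by simp)).1 (by rw [hf i, hf j, e])
  rwa [Nat.card_fin, five_check.2] at h

theorem K0_le_NU : K0 ≤ NU := sup_le (sup_le Subgroup.le_normalizer
  (Subgroup.zpowers_le.2 (pow_mem ga_NU 4))) (Subgroup.zpowers_le.2 (pow_mem ga_NU 2))

theorem K0_le_P1 : K0 ≤ P1 := by
  have ha : ga ∈ P1 := Subgroup.subset_closure (by simp)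
  exact sup_le (sup_le U1_le_P1 (Subgroup.zpowers_le.2 (pow_mem ha 4)))
    (Subgroup.zpowers_le.2 (pow_mem ha 2))

theorem pi_K0 {g : ↥NU} (h : (g : G) ∈ K0) : pi F g = 1 := by
  have hU : U1 ≤ ((pi F).ker).map NU.subtype := fun u hu =>
    ⟨⟨u, Subgroup.le_normalizer hu⟩, Equiv.ext fun i => pi_eq F
      (MulAction.mem_stabilizer_iff.1 (U1_fix_pts i hu)), rfl⟩
  have ha : ∀ n, 2 ∣ n → ga ^ n ∈ ((pi F).ker).map NU.subtype := fun n ⟨m, hm⟩ =>
    ⟨(⟨ga, ga_NU⟩ : ↥NU) ^ n, MonoidHom.mem_ker.2 (by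
      rw [map_pow, pi_a, hm, pow_mul, show α6 ^ 2 = 1 by decide +kernel, one_pow]), rfl⟩
  obtain ⟨g', hg', e⟩ := (sup_le (sup_le hU (Subgroup.zpowers_le.2 (ha 4 (by norm_num))))
    (Subgroup.zpowers_le.2 (ha 2 dvd_rfl)) : K0 ≤ _) h
  exact (Subtype.ext e : g' = g) ▸ hg'

include F in
theorem mem_K0 {g : ↥NU} (h : pi F g = 1) : (g : G) ∈ K0 := by
  have := F.finite
  have hP : (g : G) ∈ P1 := (pi_zero F).1 (by rw [h]; rfl)
  have hle : K0.subgroupOf P1 ≤ (piP F).ker := fun x hx =>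
    pi_K0 F (g := Subgroup.inclusion P1_le_normalizer x) hx
  have hc : Nat.card ↥(piP F).ker ≤ 12500 := by
    have h1 := (piP F).ker.card_mul_index
    rw [Subgroup.index_ker, card_P1] at h1
    by_contra hlt
    have h3 : 12501 * 120 ≤ Nat.card ↥(piP F).ker * Nat.card ↥(piP F).range :=
      Nat.mul_le_mul (Nat.lt_of_not_le hlt) (card_piP F)
    omega
  have he := Subgroup.eq_of_le_of_card_ge hle (by
    rw [Nat.card_congr (Subgroup.subgroupOfEquivOfLe K0_le_P1).toEquiv, card_K0 F]; exact hc)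
  exact Subgroup.mem_subgroupOf.1 (he.ge (show (⟨g, hP⟩ : ↥P1) ∈ (piP F).ker from h))

end Cfsg.Agent.LyOut
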