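import Mathlib
import Cfsg.Agent.LyOut.SixData

/-!
# Groups on six points containing a five-cycle and its normaliser in a point stabiliser
-/

set_option autoImplicit false
set_option maxRecDepth 100000
set_option maxHeartbeats 1000000

namespace Cfsg.Agent.LyOut

/-- The five-cycle. -/
def σ6 : Equiv.Perm (Fin 6) where
  toFun := ![0, 2, 3, 4, 5, 1]
  invFun := ![0, 5, 1, 2, 3, 4]
  left_inv := by unfold Function.LeftInverse; decide
  right_inv := by unfold Function.RightInverse; decide

/-- The swap of the first two points. -/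
def τ6 : Equiv.Perm (Fin 6) := Equiv.swap 0 1

/-- A transposition of two of the five points. -/
def α6 : Equiv.Perm (Fin 6) := Equiv.swap 2 3

/-- An element of order four normalising the five-cycle. -/
def μ6 : Equiv.Perm (Fin 6) := α6 * (σ6 * (σ6 * α6 * σ6⁻¹) * σ6⁻¹) * (σ6 * α6 * σ6⁻¹)

/-- The element moving the first point in the transitive group. -/
def γ6 : Equiv.Perm (Fin 6) := τ6 * σ6 * α6

/-- Composition of permutations given by lists. -/
def cmpL (p q : List Nat) : List Nat := q.map fun i => p.getD i 0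

/-- The lists of the generators; the second is free. -/
def genL (x : List Nat) : Nat → List Nat
  | 0 => [0, 2, 3, 4, 5, 1]
  | 1 => x
  | _ => [0, 1, 3, 5, 2, 4]

/-- The value of a word. -/
def evL (x : List Nat) (w : List Nat) : List Nat :=
  w.foldl (fun v i => cmpL v (genL x i)) [0, 1, 2, 3, 4, 5]

/-- A permutation fixing the first point and moving the five-cycle out of its powers. -/
def leaves (v : List Nat) : Bool :=
  Nat.beq (v.getD 0 0) 0 && [[0, 1, 2, 3, 4, 5], [0, 2, 3, 4, 5, 1], [0, 3, 4, 5, 1, 2],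
    [0, 4, 5, 1, 2, 3], [0, 5, 1, 2, 3, 4]].all (fun p =>
      decide (cmpL v [0, 2, 3, 4, 5, 1] ≠ cmpL p v))

/-- The transitive group's list. -/
def inY (x : List Nat) : Bool := yWords.any fun w => decide (evL [1, 2, 4, 3, 5, 0] w = x)

/-- The condition on a permutation moving the first point. -/
def good (x : List Nat) : Bool :=
  Nat.beq (x.getD 0 0) 0 || (inY x || badWords.any fun w => leaves (evL x w))

theorem good_all : ((List.range 6).all fun a => (List.range 6).all fun b =>
    Nat.beq a b || (List.range 6).all fun c => (Nat.beq a c || Nat.beq b c) ||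
      (List.range 6).all fun d => (Nat.beq a d || (Nat.beq b d || Nat.beq c d)) ||
        (List.range 6).all fun e => (Nat.beq a e || (Nat.beq b e || (Nat.beq c e || Nat.beq d e))) ||
          good [a, b, c, d, e, 15 - a - b - c - d - e]) = true := by
  decide +kernel

/-- The list of a permutation. -/
def lst (p : Equiv.Perm (Fin 6)) : List Nat := List.ofFn fun i => (p i).val

theorem cmpL_lst (p q : Equiv.Perm (Fin 6)) : cmpL (lst p) (lst q) = lst (p * q) := by
  simp only [cmpL, lst, List.map_ofFn]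
  refine congrArg List.ofFn (funext fun i => ?_)
  simp only [Function.comp_apply, Equiv.Perm.mul_apply]
  rw [List.getD_eq_getElem _ _ (by simp)]
  simp only [List.getElem_ofFn]

theorem lst_injective : Function.Injective lst := fun p q h => by
  ext i
  exact congrFun (List.ofFn_inj.1 h) i

theorem good_perm (p : Equiv.Perm (Fin 6)) : good (lst p) = true := by
  have hs : (p 0).val + (p 1).val + (p 2).val + (p 3).val + (p 4).val + (p 5).val = 15 := by
    have h := Equiv.sum_comp p fun i : Fin 6 => i.val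
    simp [Fin.sum_univ_six] at h
    omega
  have hne : ∀ i j : Fin 6, i ≠ j → Nat.beq (p i).val (p j).val = false := fun i j h =>
    Bool.eq_false_iff.2 fun he => h (p.injective (Fin.ext (Nat.eq_of_beq_eq_true he)))
  have h := good_all
  simp only [List.all_eq_true, List.mem_range, Bool.or_eq_true] at h
  have h1 := (h _ (p 0).isLt _ (p 1).isLt).resolve_left (by simp [hne 0 1 (by decide)])
  have h2 := (h1 _ (p 2).isLt).resolve_left (by simp [hne 0 2 (by decide), hne 1 2 (by decide)])
  have h3 := (h2 _ (p 3).isLt).resolve_left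
    (by simp [hne 0 3 (by decide), hne 1 3 (by decide), hne 2 3 (by decide)])
  have h4 := (h3 _ (p 4).isLt).resolve_left (by
    simp [hne 0 4 (by decide), hne 1 4 (by decide), hne 2 4 (by decide), hne 3 4 (by decide)])
  have he : lst p = [(p 0).val, (p 1).val, (p 2).val, (p 3).val, (p 4).val,
      15 - (p 0).val - (p 1).val - (p 2).val - (p 3).val - (p 4).val] := by
    rw [show 15 - (p 0).val - (p 1).val - (p 2).val - (p 3).val - (p 4).val = (p 5).val by omega]
    simp [lst, List.ofFn_succ]
  rw [he]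
  exact h4

theorem genL_lst (x : Equiv.Perm (Fin 6)) (i : Nat) :
    genL (lst x) i = lst (if i = 0 then σ6 else if i = 1 then x else μ6) := by
  rcases i with _ | _ | i
  · exact (by decide +kernel : [0, 2, 3, 4, 5, 1] = lst σ6)
  · rfl
  · exact (by decide +kernel : [0, 1, 3, 5, 2, 4] = lst μ6)

theorem evL_mem {P : Subgroup (Equiv.Perm (Fin 6))} {x : Equiv.Perm (Fin 6)} (hs : σ6 ∈ P)
    (hm : μ6 ∈ P) (hx : x ∈ P) (w : List Nat) : ∃ y ∈ P, evL (lst x) w = lst y := by
  rw [evL, show [0, 1, 2, 3, 4, 5] = lst 1 from (by decide +kernel)]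
  suffices h : ∀ v ∈ P, ∃ y ∈ P, w.foldl (fun v i => cmpL v (genL (lst x) i)) (lst v) = lst y from
    h 1 (one_mem P)
  induction w with
  | nil => exact fun v hv => ⟨v, hv, rfl⟩
  | cons i w ih =>
    intro v hv
    rw [List.foldl_cons, genL_lst, cmpL_lst]
    exact ih _ (mul_mem hv (by split_ifs <;> assumption))

/-- A group with the five-cycle and `μ6` whose point stabiliser normalises the five-cycle lies in
the point stabiliser or in the transitive group. -/
theorem le_or_mem {P : Subgroup (Equiv.Perm (Fin 6))} (hs : σ6 ∈ P) (hm : μ6 ∈ P)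
    (h0 : ∀ x ∈ P, x 0 = 0 → x * σ6 * x⁻¹ ∈ Subgroup.zpowers σ6)
    {x : Equiv.Perm (Fin 6)} (hx : x ∈ P) :
    x 0 = 0 ∨ x ∈ Subgroup.closure ({σ6, μ6, γ6} : Set (Equiv.Perm (Fin 6))) := by
  have h := good_perm x
  simp only [good, Bool.or_eq_true] at h
  rcases h with h | h | h
  · left
    have h := Nat.eq_of_beq_eq_true h
    exact Fin.ext (by simpa [lst] using h)
  · right
    obtain ⟨w, -, hw⟩ := List.any_eq_true.1 h
    obtain ⟨y, hy, he⟩ := evL_mem (P := Subgroup.closure ({σ6, μ6, γ6} : Set (Equiv.Perm (Fin 6))))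
      (x := γ6) (Subgroup.subset_closure (by simp)) (Subgroup.subset_closure (by simp))
      (Subgroup.subset_closure (by simp)) w
    rw [show [1, 2, 4, 3, 5, 0] = lst γ6 from (by decide +kernel), decide_eq_true_eq, he] at hw
    exact lst_injective hw ▸ hy
  · exfalso
    obtain ⟨w, -, hw⟩ := List.any_eq_true.1 h
    obtain ⟨y, hy, he⟩ := evL_mem hs hm hx w
    rw [he, leaves, Bool.and_eq_true] at hw
    have hy0 : y 0 = 0 := Fin.ext (by simpa [lst] using Nat.eq_of_beq_eq_true hw.1)
    obtain ⟨k, hk : σ6 ^ k = _⟩ := h0 y hy hy0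
    have hk' : cmpL (lst y) (lst σ6) = cmpL (lst (σ6 ^ k)) (lst y) := by
      rw [cmpL_lst, cmpL_lst, hk]
      group
    have h5 : σ6 ^ (5 : ℤ) = 1 := by decide +kernel
    have hkm : σ6 ^ k = σ6 ^ (k % 5) := by
      conv_lhs => rw [← Int.emod_add_mul_ediv k 5, zpow_add, zpow_mul, h5, one_zpow, mul_one]
    have hlow : k % 5 = 0 ∨ k % 5 = 1 ∨ k % 5 = 2 ∨ k % 5 = 3 ∨ k % 5 = 4 := by omega
    rw [hkm] at hk'
    have hall := List.all_eq_true.1 hw.2
    have hσ : lst σ6 = [0, 2, 3, 4, 5, 1] := by decide +kernel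
    rw [hσ] at hk'
    have hf : ∀ L ∈ ([[0, 1, 2, 3, 4, 5], [0, 2, 3, 4, 5, 1], [0, 3, 4, 5, 1, 2],
        [0, 4, 5, 1, 2, 3], [0, 5, 1, 2, 3, 4]] : List (List Nat)),
        cmpL (lst y) [0, 2, 3, 4, 5, 1] ≠ cmpL L (lst y) := fun L hL =>
      of_decide_eq_true (hall L hL)
    refine hf (lst (σ6 ^ (k % 5))) ?_ hk'
    rcases hlow with e | e | e | e | e <;> rw [e] <;> decide +kernel

end Cfsg.Agent.LyOut
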