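import Cfsg.Agent.LyOut.ZRels
import Cfsg.Agent.LyOut.SixPerm

/-!
# The six cosets fixed by the extraspecial subgroup

The facts assumed about the presented group (finite, simple, the suborbit of `z` has stabiliser of
order 300000 and the remaining suborbits have stabilisers of order prime to 5^5) are collected in
`Facts`.
-/

set_option autoImplicit false
set_option maxRecDepth 100000
set_option maxHeartbeats 1000000

namespace Cfsg.Agent.LyOut

/-- The coset of ⟨a, b, c, d⟩. -/
abbrev base : G ⧸ Hs := QuotientGroup.mk 1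

/-- The coset of `z`. -/
abbrev zb : G ⧸ Hs := QuotientGroup.mk gz

/-- The elements of ⟨a, b, c, d⟩ fixing the coset of `z`. -/
abbrev Wz : Subgroup G := Hs ⊓ MulAction.stabilizer G zb

/-- What is assumed about the presented group. -/
structure Facts : Prop where
  finite : Finite G
  simple : IsSimpleGroup G
  index_eq : Hs.index = 8835156
  suborbit : ∀ y : G ⧸ Hs, y = base ∨ (∃ h ∈ Hs, y = h • zb) ∨
    ¬ 3125 ∣ Nat.card ↥(Hs ⊓ MulAction.stabilizer G y)
  card_Wz : Nat.card ↥Wz = 300000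

theorem mem_stab_zb {g : G} : g ∈ MulAction.stabilizer G zb ↔ gz⁻¹ * g * gz ∈ Hs := by
  rw [MulAction.mem_stabilizer_iff]
  show (QuotientGroup.mk (g * gz) : G ⧸ Hs) = QuotientGroup.mk gz ↔ _
  rw [QuotientGroup.eq, ← inv_mem_iff, show ((g * gz)⁻¹ * gz)⁻¹ = gz⁻¹ * g * gz by group]

theorem mem_stab_base {g : G} : g ∈ MulAction.stabilizer G base ↔ g ∈ Hs := by
  rw [MulAction.mem_stabilizer_iff]
  show (QuotientGroup.mk (g * 1) : G ⧸ Hs) = QuotientGroup.mk 1 ↔ _
  rw [QuotientGroup.eq, mul_one, mul_one, inv_mem_iff]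

theorem U1_le_Hs : U1 ≤ Hs := U1_le_P1.trans P1_le_Hs

theorem U1_le_Wz : U1 ≤ Wz := fun _ hk =>
  ⟨U1_le_Hs hk, mem_stab_zb.2 (U1_le_Hs (z_conj_U1 hk))⟩

/-- The known part of `Wz`. -/
abbrev Kz : Subgroup G := U1 ⊔ Subgroup.closure {el [(0, true)], el a2W, el a3W}

theorem Kz_le_Wz : Kz ≤ Wz := by
  refine sup_le U1_le_Wz ((Subgroup.closure_le _).2 ?_)
  rintro x (rfl | rfl | rfl)
  · exact ⟨el_mem _, mem_stab_zb.2 (z_a ▸ el_mem _)⟩
  · exact ⟨el_mem _, mem_stab_zb.2 (z_a2 ▸ el_mem _)⟩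
  · exact ⟨el_mem _, mem_stab_zb.2 (z_a3 ▸ el_mem _)⟩

theorem Kz_le_P1 : Kz ≤ P1 := by
  have ha : el [(0, true)] ∈ P1 := Subgroup.subset_closure (by simp)
  have hb : el [(1, true)] ∈ P1 := Subgroup.subset_closure (by simp)
  have hi : el [(1, false)] ∈ P1 := (el_inv [(1, true)] ▸ inv_mem hb :)
  refine sup_le U1_le_P1 ((Subgroup.closure_le _).2 ?_)
  rintro x (rfl | rfl | rfl)
  · exact ha
  · rw [a2W, show el [((1 : Fin 10), true), (0, true), (1, false)] =
      el [((1 : Fin 10), true)] * el [((0 : Fin 10), true)] * el [((1 : Fin 10), false)] by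
      rw [← el_append, ← el_append]; rfl]
    exact mul_mem (mul_mem hb ha) hi
  · rw [a3W, show el [((1 : Fin 10), true), (1, true), (0, true), (1, false), (1, false)] =
      el [((1 : Fin 10), true)] * el [((1 : Fin 10), true)] * el [((0 : Fin 10), true)] *
        el [((1 : Fin 10), false)] * el [((1 : Fin 10), false)] by
      rw [← el_append, ← el_append, ← el_append, ← el_append]; rfl]
    exact mul_mem (mul_mem (mul_mem (mul_mem hb hb) ha) hi) hi

/-- The point to which `a` moves `b ^ k`. -/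
def aImg : Nat → Nat
  | 1 => 2
  | 2 => 1
  | k => k

/-- The remaining factor. -/
def aRest : Nat → Wd
  | 1 => [(0, true), (0, true)] ++ a3W ++ a2W ++ [(0, true)]
  | 2 => [(0, true), (0, true), (0, true)] ++ a2W ++ a3W
  | 3 => a3W
  | 4 => a2W
  | _ => [(0, true)]

theorem a_b_check : ((List.range 5).all fun k =>
    chk ([(0, true)] ++ pW (wW 0) k) (pW (wW 0) (aImg k) ++ aRest k)) = true := by
  decide +kernel

theorem aRest_mem (k : Nat) : el (aRest k) ∈ Kz := by
  have h : ∀ x ∈ ({el [(0, true)], el a2W, el a3W} : Set G), x ∈ Kz := fun x hx =>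
    (le_sup_right : _ ≤ Kz) (Subgroup.subset_closure hx)
  have ha := h (el [(0, true)]) (by simp)
  have h2 := h (el a2W) (by simp)
  have h3 := h (el a3W) (by simp)
  have e2 : el [(0, true), (0, true)] = el [(0, true)] * el [(0, true)] := (el_append _ _).symm ▸ rfl
  have e3 : el [(0, true), (0, true), (0, true)] =
      el [(0, true)] * el [(0, true)] * el [(0, true)] := by
    rw [← el_append, ← el_append]; rfl
  match k with
  | 1 =>
    simp only [aRest, el_append, e2]
    exact mul_mem (mul_mem (mul_mem (mul_mem ha ha) h3) h2) ha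
  | 2 =>
    simp only [aRest, el_append, e3]
    exact mul_mem (mul_mem (mul_mem (mul_mem ha ha) ha) h2) h3
  | 3 => exact h3
  | 4 => exact h2
  | 0 => exact ha
  | (k + 5) => exact ha

theorem a_b {k : Nat} (hk : k < 5) : ga * gb ^ k = gb ^ aImg k * el (aRest k) := by
  have h := el_eq (List.all_eq_true.1 a_b_check k (List.mem_range.2 hk))
  simpa only [el_append, el_pW] using h

theorem a_pow_eight : ga ^ 8 = 1 := by
  have h : chk (pL 0 8) [] = true := by decide +kernel
  rw [← el_nil, ← el_eq h, el_pL]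

theorem P1_cover {x : G} (hx : x ∈ P1) : ∃ k < 5, ∃ y ∈ Kz, x = gb ^ k * y := by
  have hb5 : gb ^ 5 = 1 := pow_five 0 (by norm_num)
  let R : Submonoid G :=
    { carrier := {g | ∀ k < 5, ∀ y ∈ Kz, ∃ k' < 5, ∃ y' ∈ Kz, g * (gb ^ k * y) = gb ^ k' * y'}
      one_mem' := fun k hk y hy => ⟨k, hk, y, hy, one_mul _⟩
      mul_mem' := fun {g h} hg hh k hk y hy => by
        obtain ⟨k', hk', y', hy', e⟩ := hh k hk y hy
        obtain ⟨k'', hk'', y'', hy'', e'⟩ := hg k' hk' y' hy'
        exact ⟨k'', hk'', y'', hy'', by rw [mul_assoc, e, e']⟩ }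
  have hra : ga ∈ R := fun k hk y hy => by
    refine ⟨aImg k, ?_, _, mul_mem (aRest_mem k) hy, ?_⟩
    · interval_cases k <;> decide
    · rw [← mul_assoc, a_b hk, mul_assoc]
  have hrb : gb ∈ R := fun k hk y hy => by
    refine ⟨(k + 1) % 5, Nat.mod_lt _ (by norm_num), y, hy, ?_⟩
    rw [← mul_assoc, ← pow_succ', pow_eq_pow_mod _ hb5]
  have hrc : ∀ c ∈ U1, c ∈ R := fun c hc k hk y hy => by
    refine ⟨k, hk, (gb ^ k)⁻¹ * c * gb ^ k * y, mul_mem ((le_sup_left : U1 ≤ Kz) ?_) hy, by group⟩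
    simpa using (Subgroup.mem_normalizer_iff.1 (inv_mem (pow_mem b_norm1 k)) c).1 hc
  have hx' : x ∈ R := by
    refine Subgroup.closure_induction'' (p := fun y _ => y ∈ R) ?_ ?_ R.one_mem
      (fun a b _ _ => R.mul_mem) hx
    · rintro g (rfl | rfl | rfl)
      exacts [hra, hrb, hrc _ gen_facts.2.2.2.2.2.2.2.2]
    · rintro g (rfl | rfl | rfl)
      · rw [inv_eq_of_mul_eq_one_right (show ga * ga ^ 7 = 1 by rw [← pow_succ', a_pow_eight])]
        exact R.pow_mem hra 7
      · rw [inv_eq_of_mul_eq_one_right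
          (show el [(1, true)] * gb ^ 4 = 1 from (pow_succ' gb 4).symm.trans hb5)]
        exact R.pow_mem hrb 4
      · exact hrc _ (inv_mem gen_facts.2.2.2.2.2.2.2.2)
  simpa using hx' 0 (by norm_num) 1 (one_mem _)

variable (F : Facts)

theorem finite_sub (F : Facts) (K : Subgroup G) : Finite ↥K := by
  have := F.finite
  infer_instance

include F in
theorem Kz_eq : Kz = Wz := by
  have := F.finite
  refine Subgroup.eq_of_le_of_card_ge Kz_le_Wz ?_
  have h : Nat.card ↥P1 ≤ Nat.card (Fin 5 × ↥Kz) := by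
    have hc : ∀ x : ↥P1, ∃ p : Fin 5 × ↥Kz, (x : G) = gb ^ p.1.val * p.2 := fun x => by
      obtain ⟨k, hk, y, hy, e⟩ := P1_cover x.2
      exact ⟨(⟨k, hk⟩, ⟨y, hy⟩), e⟩
    choose f hf using hc
    exact Nat.card_le_card_of_injective f fun x y e => Subtype.ext (by rw [hf x, hf y, e])
  rw [card_P1, Nat.card_prod, Nat.card_fin] at h
  rw [F.card_Wz]
  omega

include F in
theorem Wz_le_P1 : Wz ≤ P1 := Kz_eq F ▸ Kz_le_P1

include F in
/-- `U1` is the only subgroup of its order in `Wz`. -/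
theorem eq_U1_of_le_Wz {M : Subgroup G} (hM : M ≤ Wz) (hc : Nat.card ↥M = 3125) : M = U1 := by
  have := F.finite
  have hn : M ≤ Subgroup.normalizer (U1 : Set G) :=
    hM.trans ((Wz_le_P1 F).trans P1_le_normalizer)
  have hp : IsPGroup 5 ↥(M ⊔ U1) := IsPGroup.to_sup_of_normal_right'
    (IsPGroup.of_card (n := 5) (by rw [hc]; norm_num))
    (IsPGroup.of_card (n := 5) (by rw [card_U1]; norm_num)) hn
  obtain ⟨n, hn'⟩ := IsPGroup.iff_card.1 hp
  have hd := Subgroup.card_dvd_of_le (sup_le hM U1_le_Wz : M ⊔ U1 ≤ Wz)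
  rw [F.card_Wz, hn'] at hd
  have hn5 : n ≤ 5 := by
    by_contra h
    exact absurd ((pow_dvd_pow 5 (show 6 ≤ n by omega)).trans hd) (by norm_num)
  have h1 : Nat.card ↥(M ⊔ U1) ≤ 3125 := by
    rw [hn', show (3125 : ℕ) = 5 ^ 5 by norm_num]
    exact Nat.pow_le_pow_right (by norm_num) hn5
  calc M = M ⊔ U1 := Subgroup.eq_of_le_of_card_ge le_sup_left (h1.trans hc.ge)
    _ = U1 := (Subgroup.eq_of_le_of_card_ge le_sup_right (h1.trans card_U1.ge)).symm

/-- The six points. -/
def pts (i : Fin 6) : G ⧸ Hs := if i = 0 then base else gb ^ (i.val - 1) • zb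

theorem pts_succ {k : Nat} (hk : k < 5) : pts ⟨k + 1, by omega⟩ = gb ^ k • zb := by
  simp [pts, Fin.ext_iff]

theorem U1_fix_pts (i : Fin 6) : U1 ≤ MulAction.stabilizer G (pts i) := by
  intro u hu
  unfold pts
  split_ifs with h
  · exact mem_stab_base.2 (U1_le_Hs hu)
  · have h1 := (Subgroup.mem_normalizer_iff.1 (inv_mem (pow_mem b_norm1 (i.val - 1))) u).1 hu
    rw [inv_inv] at h1
    rw [MulAction.mem_stabilizer_iff, ← mul_smul,
      show u * gb ^ (i.val - 1) = gb ^ (i.val - 1) * ((gb ^ (i.val - 1))⁻¹ * u * gb ^ (i.val - 1)) by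
        group, mul_smul]
    exact congrArg (gb ^ (i.val - 1) • ·) (MulAction.mem_stabilizer_iff.1 (U1_le_Wz h1).2)

include F in
theorem gb_not_Wz : gb ∉ Wz := by
  intro hb
  have := F.finite
  have hd := Subgroup.card_dvd_of_le (sup_le U1_le_Wz (Subgroup.zpowers_le.2 hb) : Us ≤ Wz)
  rw [card_Us, F.card_Wz] at hd
  norm_num at hd

include F in
theorem zb_ne_base : zb ≠ base := by
  intro h
  have := F.finite
  have h2 : Wz = Hs := inf_eq_left.2 (fun g hg => by rw [h]; exact mem_stab_base.2 hg)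
  have := F.card_Wz
  rw [h2, card_Hs] at this
  norm_num at this

include F in
theorem pts_injective : Function.Injective pts := by
  have hbH : ∀ k, gb ^ k ∈ Hs := fun k => pow_mem (el_mem _) k
  have h0 : ∀ k, gb ^ k • zb ≠ base := fun k h => zb_ne_base F (by
    rw [eq_inv_smul_iff.2 h]
    exact mem_stab_base.2 (inv_mem (hbH k)))
  have hb5 : gb ^ 5 = 1 := pow_five 0 (by norm_num)
  have h1 : ∀ k l, k < l → l < 5 → gb ^ k • zb ≠ gb ^ l • zb := by
    intro k l hkl hl h
    have hm : gb ^ (l - k) ∈ Wz := by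
      refine ⟨hbH _, MulAction.mem_stabilizer_iff.2 ?_⟩
      apply MulAction.injective (gb ^ k)
      show gb ^ k • gb ^ (l - k) • zb = gb ^ k • zb
      rw [← mul_smul, ← pow_add, Nat.add_sub_cancel' hkl.le, h]
    obtain ⟨m, hm5⟩ : ∃ m, (l - k) * m % 5 = 1 := by
      have : l - k = 1 ∨ l - k = 2 ∨ l - k = 3 ∨ l - k = 4 := by omega
      rcases this with e | e | e | e <;> rw [e]
      exacts [⟨1, rfl⟩, ⟨3, rfl⟩, ⟨2, rfl⟩, ⟨4, rfl⟩]
    apply gb_not_Wz F
    have := pow_mem hm m
    rwa [← pow_mul, pow_eq_pow_mod _ hb5, hm5, pow_one] at this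
  intro i j h
  by_contra hne
  rcases i with ⟨_ | k, hi⟩ <;> rcases j with ⟨_ | l, hj⟩
  · exact hne rfl
  · rw [pts_succ (by omega)] at h
    exact h0 l h.symm
  · rw [pts_succ (by omega)] at h
    exact h0 k h
  · rw [pts_succ (by omega), pts_succ (by omega)] at h
    rcases lt_trichotomy k l with hlt | rfl | hlt
    · exact h1 k l hlt (by omega) h
    · exact hne rfl
    · exact h1 l k hlt (by omega) h.symm

include F in
theorem exists_of_fix {M : Subgroup G} (hM : M ≤ Hs) (hc : Nat.card ↥M = 3125) {y : G ⧸ Hs}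
    (hy : M ≤ MulAction.stabilizer G y) :
    y = base ∨ ∃ h ∈ Hs, y = h • zb ∧ M = U1.map (MulAut.conj h).toMonoidHom := by
  have := F.finite
  rcases F.suborbit y with h | ⟨h, hh, rfl⟩ | h
  · exact Or.inl h
  · refine Or.inr ⟨h, hh, rfl, ?_⟩
    have h1 : M.map (MulAut.conj h⁻¹).toMonoidHom ≤ Wz := by
      rintro _ ⟨m, hm, rfl⟩
      simp only [MulEquiv.coe_toMonoidHom, MulAut.conj_apply, inv_inv]
      refine ⟨(mul_mem (mul_mem (inv_mem hh) (hM hm)) hh : h⁻¹ * m * h ∈ Hs),
        MulAction.mem_stabilizer_iff.2 ?_⟩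
      rw [mul_smul, mul_smul, MulAction.mem_stabilizer_iff.1 (hy hm), inv_smul_smul]
    have h2 := eq_U1_of_le_Wz F h1 (by
      rw [← Nat.card_congr (Subgroup.equivMapOfInjective M _ (MulAut.conj h⁻¹).injective).toEquiv, hc])
    rw [← h2, Subgroup.map_map]
    refine (Subgroup.map_id M).symm.trans (congrArg (fun f => M.map f) ?_)
    ext x
    simp only [MonoidHom.id_apply, MonoidHom.comp_apply, MulEquiv.coe_toMonoidHom, MulAut.conj_apply,
      inv_inv]
    group
  · exact absurd (hc ▸ Subgroup.card_dvd_of_le (le_inf hM hy)) h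

include F in
theorem fix_U1 {y : G ⧸ Hs} (hy : U1 ≤ MulAction.stabilizer G y) : ∃ i, y = pts i := by
  have := F.finite
  rcases exists_of_fix F U1_le_Hs card_U1 hy with rfl | ⟨h, hh, rfl, hU⟩
  · exact ⟨0, rfl⟩
  · have hn : h ∈ Subgroup.normalizer (U1 : Set G) := mem_normalizer_of_conj_mem fun k hk => by
      rw [hU]
      exact ⟨k, hk, rfl⟩
    obtain ⟨k, hk, y, hy', rfl⟩ := P1_cover (mem_P1_of_norm hh hn)
    refine ⟨⟨k + 1, by omega⟩, ?_⟩
    rw [pts_succ hk, mul_smul, MulAction.mem_stabilizer_iff.1 ((Kz_eq F ▸ hy' : y ∈ Wz).2)]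

theorem Rs_le_Hs : Rs ≤ Hs := Rs_le_Us.trans (Us_le_P1.trans P1_le_Hs)

include F in
theorem fix_Rs {y : G ⧸ Hs} (hy : Rs ≤ MulAction.stabilizer G y) : y = base := by
  have := F.finite
  rcases exists_of_fix F Rs_le_Hs card_Rs hy with rfl | ⟨h, hh, rfl, hU⟩
  · rfl
  · exfalso
    have hcen : ∀ t ∈ Rs, (∀ k ∈ Rs, Commute t k) → h⁻¹ * t * h ∈ S5 := by
      intro t ht hc
      rw [hU] at ht
      obtain ⟨u, hu, rfl⟩ := ht
      have e : h⁻¹ * (MulAut.conj h).toMonoidHom u * h = u := by simp [mul_assoc]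
      rw [e]
      refine center_U1 hu fun k hk => ?_
      have := hc ((MulAut.conj h).toMonoidHom k) (hU ▸ Subgroup.mem_map_of_mem _ hk)
      rw [Commute, SemiconjBy, ← map_mul, ← map_mul] at this
      exact (MulAut.conj h).injective this
    have h5 : ∀ k ∈ Rs, Commute (w 5) k := by
      refine forall_mem_sup (forall_mem_sup (forall_mem_sup (forall_mem_sup ?_ ?_) ?_) ?_) b_rels.2.2.2.2
      · exact commute_S5 (by norm_num) (by norm_num)
      all_goals exact commute_w (by norm_num) (by norm_num) (by norm_num) (by norm_num) rfl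
    have hle : S4 ≤ S5.comap (MulAut.conj h⁻¹).toMonoidHom := by
      refine sup_le ?_ ?_ <;> refine Subgroup.zpowers_le.2 ?_ <;> simp only [Subgroup.mem_comap,
        MulEquiv.coe_toMonoidHom, MulAut.conj_apply, inv_inv]
      · exact hcen _ (S2_le_Rs (S3_le_S2 (S4_le_S3 w5_mem_S4))) h5
      · exact hcen _ (S2_le_Rs (S3_le_S2 (S4_le_S3 w4_mem_S4))) Rs_commute_w4
    have := Subgroup.card_dvd_of_le ((Subgroup.map_mono hle).trans
      (Subgroup.map_comap_le (MulAut.conj h⁻¹).toMonoidHom S5))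
    rw [← Nat.card_congr (Subgroup.equivMapOfInjective S4 _ (MulAut.conj h⁻¹).injective).toEquiv,
      card_S4, card_S5] at this
    norm_num at this

include F in
theorem norm_Rs_le {g : G} (hg : g ∈ Subgroup.normalizer (Rs : Set G)) : g ∈ Hs := by
  have h : Rs ≤ MulAction.stabilizer G (g • base) := by
    intro r hr
    rw [MulAction.mem_stabilizer_iff, ← mul_smul,
      show r * g = g * (g⁻¹ * r * g) by group, mul_smul]
    congr 1
    exact MulAction.mem_stabilizer_iff.1 (mem_stab_base.2 (Rs_le_Hs (by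
      simpa using (Subgroup.mem_normalizer_iff.1 (inv_mem hg) r).1 hr)))
  exact mem_stab_base.1 (MulAction.mem_stabilizer_iff.2 (fix_Rs F h))

/-- The normaliser of `U1`. -/
abbrev NU : Subgroup G := Subgroup.normalizer (U1 : Set G)

include F in
theorem exists_pi (g : ↥NU) (i : Fin 6) : ∃ j, (g : G) • pts i = pts j := by
  refine fix_U1 F fun u hu => ?_
  rw [MulAction.mem_stabilizer_iff, ← mul_smul,
    show u * (g : G) = g * ((g : G)⁻¹ * u * g) by group, mul_smul]
  congr 1
  exact MulAction.mem_stabilizer_iff.1 (U1_fix_pts i (by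
    simpa using (Subgroup.mem_normalizer_iff.1 (inv_mem g.2) u).1 hu))

/-- The image of a point. -/
noncomputable def piFun (g : ↥NU) (i : Fin 6) : Fin 6 := (exists_pi F g i).choose

theorem piFun_spec (g : ↥NU) (i : Fin 6) : pts (piFun F g i) = (g : G) • pts i :=
  (exists_pi F g i).choose_spec.symm

theorem piFun_mul (g h : ↥NU) (i : Fin 6) : piFun F (g * h) i = piFun F g (piFun F h i) :=
  pts_injective F (by rw [piFun_spec, piFun_spec, piFun_spec, Subgroup.coe_mul, mul_smul])

theorem piFun_one (i : Fin 6) : piFun F 1 i = i :=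
  pts_injective F (by rw [piFun_spec, Subgroup.coe_one, one_smul])

/-- The action of the normaliser of `U1` on the six points. -/
noncomputable def pi : ↥NU →* Equiv.Perm (Fin 6) where
  toFun g :=
    { toFun := piFun F g
      invFun := piFun F g⁻¹
      left_inv := fun i => by rw [← piFun_mul, inv_mul_cancel, piFun_one]
      right_inv := fun i => by rw [← piFun_mul, mul_inv_cancel, piFun_one] }
  map_one' := Equiv.ext fun i => piFun_one F i
  map_mul' g h := Equiv.ext fun i => piFun_mul F g h i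

theorem pts_pi (g : ↥NU) (i : Fin 6) : pts (pi F g i) = (g : G) • pts i := piFun_spec F g i

theorem pi_eq {g : ↥NU} {i j : Fin 6} (h : (g : G) • pts i = pts j) : pi F g i = j :=
  pts_injective F ((pts_pi F g i).trans h)

/-- The point stabiliser is the parabolic. -/
theorem pi_zero {g : ↥NU} : pi F g 0 = 0 ↔ (g : G) ∈ P1 := by
  constructor
  · intro h
    have e := pts_pi F g 0
    rw [h] at e
    exact mem_P1_of_norm (mem_stab_base.1 (MulAction.mem_stabilizer_iff.2 e.symm)) g.2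
  · exact fun h => pi_eq F (MulAction.mem_stabilizer_iff.1 (mem_stab_base.2 (P1_le_Hs h)))

theorem ga_NU : ga ∈ NU := a_norm1
theorem gb_NU : gb ∈ NU := b_norm1

theorem pi_b : pi F ⟨gb, gb_NU⟩ = σ6 := by
  refine Equiv.ext fun i => pi_eq F ?_
  have hb5 : gb ^ 5 = 1 := pow_five 0 (by norm_num)
  rcases i with ⟨_ | k, hi⟩
  · exact MulAction.mem_stabilizer_iff.1 (mem_stab_base.2 (el_mem _))
  · have hk : k < 5 := by omega
    have e : σ6 ⟨k + 1, hi⟩ = ⟨(k + 1) % 5 + 1, by omega⟩ := by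
      interval_cases k <;> decide +revert
    rw [e, pts_succ (Nat.mod_lt _ (by norm_num)), pts_succ (by omega), ← mul_smul, ← pow_succ',
      ← pow_eq_pow_mod _ hb5]

theorem pi_a : pi F ⟨ga, ga_NU⟩ = α6 := by
  refine Equiv.ext fun i => pi_eq F ?_
  rcases i with ⟨_ | k, hi⟩
  · exact MulAction.mem_stabilizer_iff.1 (mem_stab_base.2 (el_mem _))
  · have hk : k < 5 := by omega
    have hk' : aImg k < 5 := by interval_cases k <;> decide
    have e : α6 ⟨k + 1, hi⟩ = ⟨aImg k + 1, by omega⟩ := by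
      interval_cases k <;> decide +revert
    rw [e, pts_succ hk', pts_succ hk, ← mul_smul]
    show (ga * gb ^ k) • zb = _
    rw [a_b hk, mul_smul, MulAction.mem_stabilizer_iff.1 ((Kz_eq F ▸ aRest_mem k : el (aRest k) ∈ Wz).2)]

end Cfsg.Agent.LyOut
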