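import Cfsg.Agent.LyMat.Main

/-!
# Equalities of words in the subgroup ⟨a, b, c, d⟩ of the presented Lyons group

The group presented by the first 44 relators maps injectively to the Lyons group and to the
matrices of degree 14, so an equality of matrices is an equality in the Lyons group.
-/

set_option autoImplicit false
set_option maxRecDepth 100000
set_option maxHeartbeats 1000000

namespace Cfsg.Agent.LyOut

open Cfsg.Agent.CosetCert Cfsg.Spor Cfsg.Lie Cfsg.Agent.LyMat

/-- The presented Lyons group. -/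
abbrev G : Type := PresentedGroup lyRels

/-- Words in a, b, c, d, e, c1, …, c5. -/
abbrev Wd : Type := List (Fin 10 × Bool)

/-- The element of a word. -/
def el (l : Wd) : G :=
  PresentedGroup.mk lyRels (FreeGroup.mk (l.map fun a => (LyChain1.ren a.1, a.2)))

theorem el_append (l m : Wd) : el (l ++ m) = el l * el m := by
  simp [el, ← FreeGroup.mul_mk]

theorem el_inv (l : Wd) : el (FreeGroup.invRev l) = (el l)⁻¹ := by
  rw [el, el, ← map_inv, FreeGroup.inv_mk]
  congr 2
  simp [FreeGroup.invRev, List.map_reverse, Function.comp_def]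

theorem el_nil : el [] = 1 := by simp [el, ← FreeGroup.one_eq_mk]

/-- The embedding of the group presented by the first 44 relators. -/
theorem exists_embed : ∃ ψ : Q →* G, Function.Injective ψ ∧ ∀ l : Wd,
    ψ (PresentedGroup.mk _ (FreeGroup.mk l)) = el l := by
  obtain ⟨ψ, hψ⟩ := exists_rename (rels := lyRels) LyChain1.relWords LyChain1.ren
    (one_of_ok (by decide +kernel))
  obtain ⟨e⟩ := q_iso
  have : IsSimpleGroup ↥(chevG2.group (ZMod 5)) :=
    (Chev.g2_simple (ZMod 5) ⟨2, by decide, by decide⟩).1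
  have : IsSimpleGroup Q := e.isSimpleGroup
  refine ⟨ψ, ?_, fun l => by rw [hψ, FreeGroup.map.mk]; rfl⟩
  rcases ψ.normal_ker.eq_bot_or_eq_top with h | h
  · exact (MonoidHom.ker_eq_bot_iff ψ).1 h
  · refine absurd (MonoidHom.mem_ker.1
      (h ▸ Subgroup.mem_top (PresentedGroup.mk _ (FreeGroup.of (0 : Fin 10))))) ?_
    rw [hψ, FreeGroup.map.of]
    exact of_a_ne

theorem toG_injective : Function.Injective toG := by
  have : Finite Q := q_card.1
  have hc : Nat.card ↥(chevG2.group (ZMod 5)) = 5859000000 := by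
    have h := Chev.g2_card_group (ZMod 5)
    simp [ZMod.card, Fin.prod_univ_two] at h
    omega
  have e : ↥(chevG2.group (ZMod 5)) ≃* ↥G14 :=
    Subgroup.equivMapOfInjective _ _ (Units.mapEquiv reI).injective
  have hr : Nat.card ↥toG.range = 5859000000 := by
    rw [toG_range, ← Nat.card_congr e.toEquiv, hc]
  have : Function.Bijective toG.rangeRestrict :=
    toG.rangeRestrict_surjective.bijective_of_nat_card_le (by rw [hr]; exact q_card.2)
  intro x y h
  exact this.1 (Subtype.ext h)

/-- The expansion of a word in the letters of the matrices. -/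
def lts (l : Wd) : List Nat := (expW0 (l.map fun a => (LyChain1.ren a.1, a.2))).map code

/-- Two words have the same matrix. -/
noncomputable def chk (l m : Wd) : Bool :=
  relB mask14 m14 id14 id14 (lts (l ++ FreeGroup.invRev m))

theorem el_eq {l m : Wd} (h : chk l m = true) : el l = el m := by
  obtain ⟨ψ, hi, hψ⟩ := exists_embed
  rw [← hψ, ← hψ]
  congr 1
  rw [← mul_inv_eq_one, ← map_inv, ← map_mul, FreeGroup.inv_mk, FreeGroup.mul_mk]
  apply toG_injective
  rw [map_one]
  apply Units.ext
  show ((FreeGroup.lift qImg (FreeGroup.mk (l ++ FreeGroup.invRev m)) :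
    (Matrix (Fin 14) (Fin 14) (ZMod 5))ˣ) : Matrix (Fin 14) (Fin 14) (ZMod 5)) = _
  rw [lift_qImg, coe_genImg0]
  exact (spec14 h).trans ((toMat_one id14_check).trans Units.val_one.symm)

/-- The matrix of `c5`. -/
noncomputable def c5M : List Nat :=
  wordK mask14 m14 (lts [(9, true)]) id14 id

theorem el_c5_ne : el [(9, true)] ≠ 1 := by
  obtain ⟨ψ, hi, hψ⟩ := exists_embed
  rw [← hψ]
  intro e
  rw [← map_one ψ] at e
  have e1 := congrArg toG (hi e)
  have e2 : ((toG (PresentedGroup.mk _ (FreeGroup.mk [((9 : Fin 10), true)])) :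
      (Matrix (Fin 14) (Fin 14) (ZMod 5))ˣ) : Matrix (Fin 14) (Fin 14) (ZMod 5)) = 1 := by
    rw [e1, map_one, Units.val_one]
  change ((FreeGroup.lift qImg (FreeGroup.mk [((9 : Fin 10), true)]) :
    (Matrix (Fin 14) (Fin 14) (ZMod 5))ˣ) : Matrix (Fin 14) (Fin 14) (ZMod 5)) = 1 at e2
  rw [lift_qImg, coe_genImg0] at e2
  obtain ⟨P, hP, hPv, hk⟩ := wordK_spec (by norm_num : 14 ≤ 127) m14 good_m14
    (lts [(9, true)]) id14 id good_id14
  have hPc : c5M = P := by rw [c5M, mask14_eq, hk]; rfl
  rw [toMat_one id14_check, one_mul] at hPv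
  have e3 : toMat 14 c5M = 1 := by rw [hPc, hPv]; exact e2
  obtain ⟨i, hi', j, hj, hne⟩ : ∃ i, ∃ hi : i < 14, ∃ j, ∃ hj : j < 14,
      fieldN (c5M.getD i 0) j % 5 ≠ (if i = j then 1 else 0) := by
    have h : ((List.range 14).any fun i => (List.range 14).any fun j =>
        !(Nat.beq (fieldN (c5M.getD i 0) j % 5) (if i = j then 1 else 0))) = true := by
      decide +kernel
    obtain ⟨i, hi', h⟩ := List.any_eq_true.1 h
    obtain ⟨j, hj, h⟩ := List.any_eq_true.1 h
    refine ⟨i, List.mem_range.1 hi', j, List.mem_range.1 hj, fun he => ?_⟩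
    rw [he, Nat.beq_refl] at h
    simp at h
  have e4 := congrFun (congrFun e3 ⟨i, hi'⟩) ⟨j, hj⟩
  simp only [toMat, Matrix.of_apply, Matrix.one_apply, Fin.mk.injEq] at e4
  by_cases hij : i = j
  · rw [if_pos hij] at e4 hne
    rw [show (1 : ZMod 5) = ((1 : ℕ) : ZMod 5) from Nat.cast_one.symm,
      ZMod.natCast_eq_natCast_iff'] at e4
    exact hne e4
  · rw [if_neg hij] at e4 hne
    rw [show (0 : ZMod 5) = ((0 : ℕ) : ZMod 5) from Nat.cast_zero.symm,
      ZMod.natCast_eq_natCast_iff'] at e4
    exact hne e4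

/-- The subgroup ⟨a, b, c, d⟩. -/
abbrev Hs : Subgroup G := lyH

theorem el_mem (l : Wd) : el l ∈ Hs := by
  induction l with
  | nil => rw [el_nil]; exact one_mem _
  | cons p l ih =>
    rw [show p :: l = [p] ++ l from rfl, el_append]
    refine mul_mem ?_ ih
    obtain ⟨i, b⟩ := p
    cases b
    · have : el [(i, false)] = (el [(i, true)])⁻¹ := el_inv [(i, true)]
      rw [this]
      exact inv_mem (gen_mem i)
    · exact gen_mem i

end Cfsg.Agent.LyOut
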