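import Cfsg.Agent.LyOut.Parabolic

/-!
# The element `z`: what the relators say about its conjugation action on ⟨a, b, c⟩
-/

set_option autoImplicit false
set_option maxRecDepth 100000
set_option maxHeartbeats 1000000

namespace Cfsg.Agent.LyOut

open Cfsg.Spor Cfsg.Agent.CosetCert Cfsg.Agent.LyMat

/-- The letters of a word in the generators of the presentation. -/
def fw (l : Wd) : FreeGroup Ly.Gen := FreeGroup.mk (l.map fun a => (LyChain1.ren a.1, a.2))

/-- `z`. -/
abbrev gz : G := PresentedGroup.mk lyRels Ly.z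

theorem mk_eq {x y : FreeGroup Ly.Gen} (h : x * y⁻¹ ∈ Ly.extra) :
    PresentedGroup.mk lyRels x = PresentedGroup.mk lyRels y := by
  have h1 : PresentedGroup.mk lyRels (x * y⁻¹) = 1 := PresentedGroup.one_of_mem (Or.inr h)
  rwa [map_mul, map_inv, mul_inv_eq_one] at h1

/-- A relator `z⁻¹ y z = x` with `x` defined as a word. -/
theorem z_conj {y : FreeGroup Ly.Gen} {g : Ly.Gen} {l : Wd}
    (h : (Ly.z⁻¹ * y * Ly.z) * (FreeGroup.of g)⁻¹ ∈ Ly.extra)
    (hd : FreeGroup.of g * (fw l)⁻¹ ∈ Ly.extra) :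
    gz⁻¹ * PresentedGroup.mk lyRels y * gz = el l := by
  have h1 := mk_eq h
  simp only [map_mul, map_inv] at h1
  exact h1.trans (mk_eq hd)

/-- The words of `x162, …, x166`. -/
def zW : Nat → Wd
  | 0 => [(0, false), (1, false), (0, false), (1, true), (2, false), (1, false), (0, true),
      (2, false), (1, true), (0, true)]
  | 1 => [(1, false), (1, false), (0, true), (2, true), (0, false), (1, true), (2, true), (1, true)]
  | 2 => [(0, false), (1, false), (0, false), (2, true), (0, true), (1, true), (0, true)]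
  | 3 => [(1, false), (0, false), (1, true), (2, true), (1, false), (0, true), (1, true)]
  | _ => [(1, true), (1, true), (0, false), (1, false), (2, true), (1, true), (0, true), (2, true),
      (1, false), (1, false), (2, false)]

theorem z_c1 : gz⁻¹ * el [(5, true)] * gz = el (zW 0) :=
  z_conj (y := Ly.c1) (g := .x162) (by decide +kernel) (by decide +kernel)
theorem z_c2 : gz⁻¹ * el [(6, true)] * gz = el (zW 1) :=
  z_conj (y := Ly.c2) (g := .x163) (by decide +kernel) (by decide +kernel)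
theorem z_c3 : gz⁻¹ * el [(7, true)] * gz = el (zW 2) :=
  z_conj (y := Ly.c3) (g := .x164) (by decide +kernel) (by decide +kernel)
theorem z_c4 : gz⁻¹ * el [(8, true)] * gz = el (zW 3) :=
  z_conj (y := Ly.c4) (g := .x165) (by decide +kernel) (by decide +kernel)
theorem z_c5 : gz⁻¹ * el [(9, true)] * gz = el (zW 4) :=
  z_conj (y := Ly.c5) (g := .x166) (by decide +kernel) (by decide +kernel)

/-- `b a b⁻¹`. -/
def a2W : Wd := [(1, true), (0, true), (1, false)]
/-- `b² a b⁻²`. -/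
def a3W : Wd := [(1, true), (1, true), (0, true), (1, false), (1, false)]

theorem mk_a1 : PresentedGroup.mk lyRels Ly.a1 = el [(0, true)] := mk_eq (by decide +kernel)
theorem mk_a2 : PresentedGroup.mk lyRels Ly.a2 = el a2W :=
  (mk_eq (y := fw a2W) (by decide +kernel))
theorem mk_a3 : PresentedGroup.mk lyRels Ly.a3 = el a3W :=
  (mk_eq (y := fw a3W) (by decide +kernel))

theorem z_a : gz⁻¹ * el [(0, true)] * gz = el [(0, false), (0, false), (0, false)] :=
  mk_a1 ▸ z_conj (y := Ly.a1) (g := .x167) (by decide +kernel) (by decide +kernel)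
theorem z_a2 : gz⁻¹ * el a2W * gz = el [(1, true), (0, false), (1, false), (0, false), (0, false)] :=
  mk_a2 ▸ z_conj (y := Ly.a2) (g := .x168) (by decide +kernel) (by decide +kernel)
theorem z_a3 : gz⁻¹ * el a3W * gz =
    el [(0, true), (1, true), (1, true), (0, true), (1, false), (1, false), (0, false)] :=
  mk_a3 ▸ z_conj (y := Ly.a3) (g := .x169) (by decide +kernel) (by decide +kernel)

theorem z_sq : gz * gz = el [(0, true), (0, true)] := by
  have h1 : PresentedGroup.mk lyRels (Ly.z ^ 2) = PresentedGroup.mk lyRels Ly.u := mk_eq (by decide +kernel)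
  rw [map_pow, sq] at h1
  exact h1.trans (mk_eq (by decide +kernel))

theorem zW_check : (chk (zW 0) (ser 0 0 0 3 0) && (chk (zW 1) (ser 2 1 2 3 0) &&
    (chk (zW 2) (ser 1 4 2 3 4) && (chk (zW 3) (ser 4 0 4 3 2) && chk (zW 4) (ser 0 0 0 0 2))))) = true := by
  decide +kernel

theorem zW_mem : ∀ i, el (zW i) ∈ U1 := by
  have h := zW_check
  simp only [Bool.and_eq_true] at h
  obtain ⟨h0, h1, h2, h3, h4⟩ := h
  intro i
  match i with
  | 0 => exact el_eq h0 ▸ el_ser _ _ _ _ _
  | 1 => exact el_eq h1 ▸ el_ser _ _ _ _ _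
  | 2 => exact el_eq h2 ▸ el_ser _ _ _ _ _
  | 3 => exact el_eq h3 ▸ el_ser _ _ _ _ _
  | (i + 4) => exact el_eq h4 ▸ el_ser _ _ _ _ _

theorem z_conj_U1 {k : G} (hk : k ∈ U1) : gz⁻¹ * k * gz ∈ U1 := by
  have key : ∀ (i : Fin 10), gz⁻¹ * el [(i, true)] * gz ∈ U1 → ∀ n : Nat, gz⁻¹ * el (pL i n) * gz ∈ U1 := by
    intro i hi n
    rw [el_pL, show gz⁻¹ * el [(i, true)] ^ n * gz = (gz⁻¹ * el [(i, true)] * gz⁻¹⁻¹) ^ n by
      rw [conj_pow, inv_inv]]
    rw [inv_inv]
    exact pow_mem hi n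
  have k5 := key 5 (z_c1 ▸ zW_mem 0)
  have k7 := key 7 (z_c3 ▸ zW_mem 2)
  have k8 := key 8 (z_c4 ▸ zW_mem 3)
  have k9 := key 9 (z_c5 ▸ zW_mem 4)
  have hm : ∀ x y : G, gz⁻¹ * (x * y) * gz = (gz⁻¹ * x * gz) * (gz⁻¹ * y * gz) := fun x y => by group
  have h234 : ∀ i, i = 2 ∨ i = 3 ∨ i = 4 → gz⁻¹ * w i * gz ∈ U1 := by
    rintro i (rfl | rfl | rfl) <;>
      (simp only [w, wW, el_append, hm]
       exact mul_mem (mul_mem (mul_mem (k5 _) (k7 _)) (k8 _)) (k9 _))
  have hU : U1 ≤ U1.comap (MulAut.conj gz⁻¹).toMonoidHom := by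
    have e : ∀ x, x ∈ U1.comap (MulAut.conj gz⁻¹).toMonoidHom ↔ gz⁻¹ * x * gz ∈ U1 := fun x => by
      simp
    refine sup_le (sup_le (sup_le (sup_le ?_ ?_) ?_) ?_) ?_ <;>
      refine Subgroup.zpowers_le.2 ((e _).2 ?_)
    · exact z_c5 ▸ zW_mem 4
    · exact h234 4 (by simp)
    · exact h234 3 (by simp)
    · exact h234 2 (by simp)
    · exact z_c2 ▸ zW_mem 1
  have := hU hk
  simpa using this

theorem z_norm1 : gz ∈ Subgroup.normalizer (U1 : Set G) := by
  have := finite_U1
  rw [← inv_inv gz]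
  refine inv_mem (mem_normalizer_of_conj_mem fun k hk => ?_)
  simpa using z_conj_U1 hk

end Cfsg.Agent.LyOut
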